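import Mathlib
import Cfsg.Prelude

set_option autoImplicit false

/-!
Abstract criterion for a finite group to have only inner automorphisms: a generating triple
`a, c, d` with `a` of prime order `p` exactly dividing the order of the group, `c` of prime order
`q` exactly dividing the order of the group and normalizing `⟨a⟩` without centralizing it, `d` one
of the only two elements of order three commuting with `c`, and relators separating the finitely
many remaining candidate images of the triple.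
-/

namespace Cfsg.Agent.Co1O

open Subgroup

/-- a homomorphism commutes with the evaluation of words of a free group. -/
theorem co1o_abs_map_lift {G H : Type*} [Group G] [Group H] {ι : Type*} (φ : G →* H) (f : ι → G)
    (w : FreeGroup ι) : φ (FreeGroup.lift f w) = FreeGroup.lift (fun i => φ (f i)) w := by
  have h : φ.comp (FreeGroup.lift f) = FreeGroup.lift (fun i => φ (f i)) := by
    apply FreeGroup.ext_hom
    intro i
    simp
  exact congrArg (fun g : FreeGroup ι →* H => g w) h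

/-- conjugating by a power of `c` raises `a` to the corresponding power of `t`. -/
theorem co1o_abs_conj_pow {G : Type*} [Group G] {a c : G} {t : ℕ} (hca : c * a * c⁻¹ = a ^ t)
    (m : ℕ) : c ^ m * a * (c ^ m)⁻¹ = a ^ (t ^ m) := by
  induction m with
  | zero => simp
  | succ m ih =>
    have h1 : c ^ (m + 1) * a * (c ^ (m + 1))⁻¹ = c * (c ^ m * a * (c ^ m)⁻¹) * c⁻¹ := by
      rw [pow_succ']
      group
    rw [h1, ih]
    have h2 : c * a ^ (t ^ m) * c⁻¹ = (c * a * c⁻¹) ^ (t ^ m) := by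
      rw [conj_pow]
    rw [h2, hca, ← pow_mul, pow_succ']

/-- conjugating a power of `a` by a power of `c`. -/
theorem co1o_abs_conj_pow_pow {G : Type*} [Group G] {a c : G} {t : ℕ}
    (hca : c * a * c⁻¹ = a ^ t) (m j : ℕ) :
    c ^ m * a ^ j * (c ^ m)⁻¹ = a ^ (t ^ m * j) := by
  rw [← conj_pow, co1o_abs_conj_pow hca, ← pow_mul]

/-- two elements of prime order `p`, where `p` divides the order of the group exactly once,
generate conjugate subgroups. -/
theorem co1o_abs_sylow_conj {G : Type*} [Group G] [Finite G] (p : ℕ) [hp : Fact p.Prime]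
    (hpG : (Nat.card G).factorization p = 1) (x y : G) (hx : orderOf x = p) (hy : orderOf y = p) :
    ∃ g : G, g * y * g⁻¹ ∈ zpowers x := by
  have cx : Nat.card (zpowers x) = p ^ (Nat.card G).factorization p := by
    rw [Nat.card_zpowers, hx, hpG, pow_one]
  have cy : Nat.card (zpowers y) = p ^ (Nat.card G).factorization p := by
    rw [Nat.card_zpowers, hy, hpG, pow_one]
  obtain ⟨g, hg⟩ := MulAction.exists_smul_eq G (Sylow.ofCard (zpowers y) cy)
    (Sylow.ofCard (zpowers x) cx)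
  refine ⟨g, ?_⟩
  have h1 : (g • (Sylow.ofCard (zpowers y) cy) : Sylow p G).toSubgroup = zpowers x := by
    rw [hg]
    rfl
  rw [← h1, Sylow.coe_subgroup_smul]
  have h2 : g * y * g⁻¹ = (MulAut.conj g) • y := by
    rw [MulAut.smul_def, MulAut.conj_apply]
  rw [h2]
  apply Subgroup.smul_mem_pointwise_smul
  exact mem_zpowers y

/-- an element conjugating a generator of a finite cyclic subgroup into that subgroup normalizes
it. -/
theorem co1o_abs_mem_normalizer {G : Type*} [Group G] [Finite G] {a x : G}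
    (h : x * a * x⁻¹ ∈ zpowers a) : x ∈ normalizer ((zpowers a : Subgroup G) : Set G) := by
  have hle : zpowers (x * a * x⁻¹) ≤ zpowers a := by
    rw [zpowers_le]
    exact h
  have hcard : Nat.card (zpowers a) ≤ Nat.card (zpowers (x * a * x⁻¹)) := by
    rw [Nat.card_zpowers, Nat.card_zpowers, ← MulAut.conj_apply, MulEquiv.orderOf_eq]
  have heq : zpowers (x * a * x⁻¹) = zpowers a := Subgroup.eq_of_le_of_card_ge hle hcard
  rw [mem_normalizer_iff]
  intro y
  constructor
  · intro hy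
    obtain ⟨k, rfl⟩ := mem_zpowers_iff.1 hy
    rw [← conj_zpow]
    exact zpow_mem h k
  · intro hy
    rw [← heq] at hy
    obtain ⟨k, hk⟩ := mem_zpowers_iff.1 hy
    rw [conj_zpow] at hk
    have : y = a ^ k := by
      have h2 : x⁻¹ * (x * a ^ k * x⁻¹) * x = x⁻¹ * (x * y * x⁻¹) * x := by rw [hk]
      have h3 : x⁻¹ * (x * a ^ k * x⁻¹) * x = a ^ k := by group
      have h4 : x⁻¹ * (x * y * x⁻¹) * x = y := by group
      rw [h3, h4] at h2
      exact h2.symm
    rw [this]
    exact zpow_mem (mem_zpowers a) k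

/-- an element of a finite cyclic subgroup is a power with a natural exponent. -/
theorem co1o_abs_exists_pow {G : Type*} [Group G] [Finite G] {a x : G} (h : x ∈ zpowers a) :
    ∃ j : ℕ, x = a ^ j := by
  have h2 : x ∈ Submonoid.powers a := (mem_powers_iff_mem_zpowers).2 h
  obtain ⟨j, hj⟩ := (Submonoid.mem_powers_iff x a).1 h2
  exact ⟨j, hj.symm⟩

/-- every automorphism is inner. -/
theorem co1o_abs_all_inner {G : Type*} [Group G] [Finite G] (p q : ℕ) [hp : Fact p.Prime]
    [hq : Fact q.Prime] (a c d : G) (t : ℕ)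
    (hpG : (Nat.card G).factorization p = 1) (hqG : (Nat.card G).factorization q = 1)
    (ha : orderOf a = p) (hc : orderOf c = q)
    (hca : c * a * c⁻¹ = a ^ t) (ht : a ^ t ≠ a)
    (J : Finset ℕ)
    (hJ : ∀ j : ℕ, 0 < j → j < p → ∃ k : ℕ, ∃ i ∈ J, (j * t ^ k) % p = i % p)
    (hdc : d * c = c * d) (hd3 : d ^ 3 = 1) (hd1 : d ≠ 1)
    (hd : ∀ x : G, x * c = c * x → x ^ 3 = 1 → x ≠ 1 → x = d ∨ x = d⁻¹)
    (hgen : Subgroup.closure ({a, c, d} : Set G) = ⊤)
    (hw : ∀ i ∈ J, ∀ e : ℤ, e = 1 ∨ e = -1 → (a ^ i = a ∧ d ^ e = d) ∨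
      ∃ w : FreeGroup (Fin 3), FreeGroup.lift ![a, c, d] w = 1 ∧
        FreeGroup.lift ![a ^ i, c, d ^ e] w ≠ 1)
    (α : MulAut G) : ∃ g : G, α = MulAut.conj g := by
  have ha1 : a ≠ 1 := by
    intro h
    rw [h, orderOf_one] at ha
    exact hp.out.one_lt.ne ha
  have hc1 : c ≠ 1 := by
    intro h
    rw [h, orderOf_one] at hc
    exact hq.out.one_lt.ne hc
  -- Step 1: move `α ⟨a⟩` back to `⟨a⟩`
  obtain ⟨g, hg⟩ := co1o_abs_sylow_conj p hpG a (α a) ha (by rw [MulEquiv.orderOf_eq]; exact ha)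
  obtain ⟨α₁, hα₁⟩ : ∃ α₁ : MulAut G, α₁ = MulAut.conj g * α := ⟨_, rfl⟩
  have h1a : α₁ a ∈ zpowers a := by
    rw [hα₁, MulAut.mul_apply, MulAut.conj_apply]
    exact hg
  have hz1 : zpowers (α₁ a) = zpowers a := by
    apply Subgroup.eq_of_le_of_card_ge
    · rw [zpowers_le]
      exact h1a
    · rw [Nat.card_zpowers, Nat.card_zpowers, MulEquiv.orderOf_eq]
  -- Step 2: move `α₁ ⟨c⟩` back to `⟨c⟩` inside the normalizer of `⟨a⟩`
  have hcN : c ∈ normalizer ((zpowers a : Subgroup G) : Set G) := by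
    apply co1o_abs_mem_normalizer
    rw [hca]
    exact pow_mem (mem_zpowers a) t
  have hc1N : α₁ c ∈ normalizer ((zpowers a : Subgroup G) : Set G) := by
    apply co1o_abs_mem_normalizer
    have h2 : a ∈ zpowers (α₁ a) := by
      rw [hz1]
      exact mem_zpowers a
    obtain ⟨k, hk⟩ := mem_zpowers_iff.1 h2
    have h3 : α₁ c * a * (α₁ c)⁻¹ = α₁ (c * a ^ k * c⁻¹) := by
      rw [map_mul, map_mul, map_inv, map_zpow, hk]
    rw [h3, ← conj_zpow, hca, ← zpow_natCast, ← zpow_mul, map_zpow]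
    exact zpow_mem h1a _
  have hG0 : Nat.card G ≠ 0 := Nat.card_pos.ne'
  have hN0 : Nat.card (normalizer ((zpowers a : Subgroup G) : Set G)) ≠ 0 := Nat.card_pos.ne'
  have hoc' : orderOf (⟨c, hcN⟩ : normalizer ((zpowers a : Subgroup G) : Set G)) = q := by
    rw [← hc]
    exact Subgroup.orderOf_mk c hcN
  have hoc'' : orderOf (⟨α₁ c, hc1N⟩ : normalizer ((zpowers a : Subgroup G) : Set G)) = q := by
    rw [← hc, ← MulEquiv.orderOf_eq α₁ c]
    exact Subgroup.orderOf_mk (α₁ c) hc1N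
  have hqN : (Nat.card (normalizer ((zpowers a : Subgroup G) : Set G))).factorization q = 1 := by
    apply le_antisymm
    · rw [← hqG]
      exact (Nat.factorization_le_iff_dvd hN0 hG0).2 (Subgroup.card_subgroup_dvd_card _) q
    · apply Nat.Prime.factorization_pos_of_dvd hq.out hN0
      rw [← hoc']
      exact orderOf_dvd_natCard _
  obtain ⟨n, hn⟩ := co1o_abs_sylow_conj q hqN _ _ hoc' hoc''
  obtain ⟨α₂, hα₂⟩ : ∃ α₂ : MulAut G, α₂ = MulAut.conj (n : G) * α₁ := ⟨_, rfl⟩
  have h2c : α₂ c ∈ zpowers c := by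
    rw [hα₂, MulAut.mul_apply, MulAut.conj_apply]
    obtain ⟨k, hk⟩ := mem_zpowers_iff.1 hn
    have := congrArg (fun z : normalizer ((zpowers a : Subgroup G) : Set G) => (z : G)) hk
    simp only [Subgroup.coe_zpow, Subgroup.coe_mul, Subgroup.coe_inv] at this
    rw [← this]
    exact zpow_mem (mem_zpowers c) k
  have h2a : α₂ a ∈ zpowers a := by
    rw [hα₂, MulAut.mul_apply, MulAut.conj_apply]
    exact (mem_normalizer_iff.1 n.2 _).1 h1a
  -- Step 3: `α₂ c = c`
  obtain ⟨j, hj⟩ := co1o_abs_exists_pow h2a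
  obtain ⟨m, hm⟩ := co1o_abs_exists_pow h2c
  have h3 : a ^ (t ^ m * j) = a ^ (j * t) := by
    have h4 := congrArg α₂ hca
    rw [map_mul, map_mul, map_inv, map_pow, hj, hm, co1o_abs_conj_pow_pow hca, ← pow_mul] at h4
    exact h4
  have hpj : ¬ p ∣ j := by
    intro hdvd
    rw [← ha, orderOf_dvd_iff_pow_eq_one, ← hj] at hdvd
    exact ha1 ((map_eq_one_iff α₂ α₂.injective).1 hdvd)
  have h5 : a ^ (t ^ m) = a ^ t := by
    rw [pow_eq_pow_iff_modEq, ha] at h3 ⊢
    have hcop : Nat.Coprime p j := (Nat.Prime.coprime_iff_not_dvd hp.out).2 hpj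
    have h6 : t ^ m * j ≡ t * j [MOD p] := by
      rw [mul_comm t j]
      exact h3
    exact Nat.ModEq.cancel_right_of_coprime hcop h6
  have h2c' : α₂ c = c := by
    rw [hm]
    by_contra hne
    have hu1 : c⁻¹ * c ^ m ≠ 1 := by
      intro h
      apply hne
      have : c ^ m = c * (c⁻¹ * c ^ m) := by group
      rw [this, h, mul_one]
    have hcomm : (c⁻¹ * c ^ m) * a * (c⁻¹ * c ^ m)⁻¹ = a := by
      have h7 : (c⁻¹ * c ^ m) * a * (c⁻¹ * c ^ m)⁻¹ = c⁻¹ * (c ^ m * a * (c ^ m)⁻¹) * c := by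
        group
      rw [h7, co1o_abs_conj_pow hca, h5, ← hca]
      group
    have hcard : Nat.card (zpowers c) = q := by rw [Nat.card_zpowers, hc]
    have hu : (⟨c⁻¹ * c ^ m, mul_mem (inv_mem (mem_zpowers c)) (pow_mem (mem_zpowers c) m)⟩ :
        zpowers c) ≠ 1 := by
      intro h
      apply hu1
      exact congrArg (fun z : zpowers c => (z : G)) h
    have hgen' := mem_zpowers_of_prime_card hcard hu (g' := (⟨c, mem_zpowers c⟩ : zpowers c))
    obtain ⟨k, hk⟩ := mem_zpowers_iff.1 hgen'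
    have hk' : (c⁻¹ * c ^ m) ^ k = c := by
      have := congrArg (fun z : zpowers c => (z : G)) hk
      simpa using this
    have hcu : Commute (c⁻¹ * c ^ m) a := by
      have h8 : (c⁻¹ * c ^ m) * a = a * (c⁻¹ * c ^ m) := by
        rw [← mul_inv_eq_iff_eq_mul]
        exact hcomm
      exact h8
    have hcc : Commute c a := by
      rw [← hk']
      exact hcu.zpow_left k
    apply ht
    rw [← hca, hcc.eq, mul_inv_cancel_right]
  -- Step 4: normalize the exponent of `a`
  have hjp : 0 < j % p := Nat.pos_of_ne_zero (fun h => hpj (Nat.dvd_of_mod_eq_zero h))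
  obtain ⟨k, i, hiJ, hki⟩ := hJ (j % p) hjp (Nat.mod_lt _ hp.out.pos)
  obtain ⟨α₃, hα₃⟩ : ∃ α₃ : MulAut G, α₃ = MulAut.conj (c ^ k) * α₂ := ⟨_, rfl⟩
  have h3a : α₃ a = a ^ i := by
    rw [hα₃, MulAut.mul_apply, MulAut.conj_apply, hj, co1o_abs_conj_pow_pow hca,
      pow_eq_pow_iff_modEq, ha]
    have h9 : j % p * t ^ k ≡ i [MOD p] := hki
    have h10 : j % p ≡ j [MOD p] := Nat.mod_modEq j p
    calc t ^ k * j ≡ t ^ k * (j % p) [MOD p] := (h10.symm).mul_left _
      _ = j % p * t ^ k := mul_comm _ _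
      _ ≡ i [MOD p] := h9
  have h3c : α₃ c = c := by
    rw [hα₃, MulAut.mul_apply, MulAut.conj_apply, h2c', ← pow_succ, pow_succ', mul_inv_cancel_right]
  -- Step 5: the image of `d`
  have h3d : α₃ d = d ∨ α₃ d = d⁻¹ := by
    apply hd
    · rw [← h3c, ← map_mul, ← map_mul, hdc]
    · rw [← map_pow, hd3, map_one]
    · intro h
      exact hd1 ((map_eq_one_iff α₃ α₃.injective).1 h)
  -- Step 6: the relators
  have hfin : α₃ a = a ∧ α₃ d = d := by
    have key : ∀ e : ℤ, e = 1 ∨ e = -1 → α₃ d = d ^ e → α₃ a = a ∧ α₃ d = d := by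
      intro e he hde
      rcases hw i hiJ e he with ⟨h11, h12⟩ | ⟨w, hw1, hw2⟩
      · exact ⟨h3a.trans h11, hde.trans h12⟩
      · exfalso
        apply hw2
        have h13 := co1o_abs_map_lift α₃.toMonoidHom ![a, c, d] w
        rw [hw1, map_one] at h13
        have h14 : (fun x : Fin 3 => α₃.toMonoidHom (![a, c, d] x)) = ![a ^ i, c, d ^ e] := by
          funext x
          fin_cases x
          · exact h3a
          · exact h3c
          · exact hde
        rw [h14] at h13
        exact h13.symm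
    rcases h3d with h | h
    · exact key 1 (Or.inl rfl) (by rw [zpow_one]; exact h)
    · exact key (-1) (Or.inr rfl) (by rw [zpow_neg_one]; exact h)
  have h3one : α₃ = 1 := by
    have key : (α₃ : G ≃* G).toMonoidHom = ((1 : MulAut G) : G ≃* G).toMonoidHom := by
      apply MonoidHom.eq_of_eqOn_dense hgen
      intro x hx
      rcases hx with rfl | rfl | rfl
      · exact hfin.1
      · exact h3c
      · exact hfin.2
    apply MulEquiv.ext
    intro x
    exact congrArg (fun f : G →* G => f x) key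
  refine ⟨(c ^ k * (n : G) * g)⁻¹, ?_⟩
  have h15 : α = (MulAut.conj (c ^ k) * MulAut.conj (n : G) * MulAut.conj g)⁻¹ * α₃ := by
    rw [hα₃, hα₂, hα₁]
    group
  rw [h15, h3one, mul_one, map_inv, map_mul, map_mul]

/-- the outer automorphism group has one element. -/
theorem co1o_abs_out_one {G : Type*} [Group G] [Finite G] (p q : ℕ) [hp : Fact p.Prime]
    [hq : Fact q.Prime] (a c d : G) (t : ℕ)
    (hpG : (Nat.card G).factorization p = 1) (hqG : (Nat.card G).factorization q = 1)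
    (ha : orderOf a = p) (hc : orderOf c = q)
    (hca : c * a * c⁻¹ = a ^ t) (ht : a ^ t ≠ a)
    (J : Finset ℕ)
    (hJ : ∀ j : ℕ, 0 < j → j < p → ∃ k : ℕ, ∃ i ∈ J, (j * t ^ k) % p = i % p)
    (hdc : d * c = c * d) (hd3 : d ^ 3 = 1) (hd1 : d ≠ 1)
    (hd : ∀ x : G, x * c = c * x → x ^ 3 = 1 → x ≠ 1 → x = d ∨ x = d⁻¹)
    (hgen : Subgroup.closure ({a, c, d} : Set G) = ⊤)
    (hw : ∀ i ∈ J, ∀ e : ℤ, e = 1 ∨ e = -1 → (a ^ i = a ∧ d ^ e = d) ∨
      ∃ w : FreeGroup (Fin 3), FreeGroup.lift ![a, c, d] w = 1 ∧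
        FreeGroup.lift ![a ^ i, c, d ^ e] w ≠ 1) :
    Nat.card (Cfsg.Out G) = 1 := by
  have h : (Cfsg.Inn G).index = 1 := by
    rw [Subgroup.index_eq_one, Subgroup.eq_top_iff']
    intro α
    obtain ⟨g, hg⟩ := co1o_abs_all_inner p q a c d t hpG hqG ha hc hca ht J hJ hdc hd3 hd1 hd hgen
      hw α
    exact ⟨g, hg.symm⟩
  exact h

/-- the representatives `1, 22` of the units modulo `23` modulo the powers of `2`. -/
theorem co1o_abs_reps_23 (j : ℕ) (h0 : 0 < j) (h1 : j < 23) :
    ∃ k : ℕ, ∃ i ∈ ({1, 22} : Finset ℕ), (j * 2 ^ k) % 23 = i % 23 := by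
  have key : ∀ j : Fin 23, j.val ≠ 0 → ∃ k : Fin 11, (j.val * 2 ^ k.val) % 23 = 1 ∨
      (j.val * 2 ^ k.val) % 23 = 22 := by decide
  obtain ⟨k, hk⟩ := key ⟨j, h1⟩ h0.ne'
  rcases hk with hk | hk
  · exact ⟨k.val, 1, by simp, hk⟩
  · exact ⟨k.val, 22, by simp, hk⟩

/-- the case `p = 23`, `q = 11`, `t = 2`: three relators separating the triple `a, c, d` from the
triples `a, c, d⁻¹`, `a⁻¹, c, d` and `a⁻¹, c, d⁻¹`. -/
theorem co1o_abs_out_one_23 {G : Type*} [Group G] [Finite G] (a c d : G)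
    (hpG : (Nat.card G).factorization 23 = 1) (hqG : (Nat.card G).factorization 11 = 1)
    (ha : orderOf a = 23) (hc : orderOf c = 11) (hca : c * a * c⁻¹ = a ^ 2)
    (hdc : d * c = c * d) (hd3 : d ^ 3 = 1) (hd1 : d ≠ 1)
    (hd : ∀ x : G, x * c = c * x → x ^ 3 = 1 → x ≠ 1 → x = d ∨ x = d⁻¹)
    (hgen : Subgroup.closure ({a, c, d} : Set G) = ⊤)
    (hw1 : ∃ w : FreeGroup (Fin 3), FreeGroup.lift ![a, c, d] w = 1 ∧
      FreeGroup.lift ![a, c, d⁻¹] w ≠ 1)
    (hw2 : ∃ w : FreeGroup (Fin 3), FreeGroup.lift ![a, c, d] w = 1 ∧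
      FreeGroup.lift ![a⁻¹, c, d] w ≠ 1)
    (hw3 : ∃ w : FreeGroup (Fin 3), FreeGroup.lift ![a, c, d] w = 1 ∧
      FreeGroup.lift ![a⁻¹, c, d⁻¹] w ≠ 1) :
    Nat.card (Cfsg.Out G) = 1 := by
  haveI : Fact (Nat.Prime 23) := ⟨by norm_num⟩
  haveI : Fact (Nat.Prime 11) := ⟨by norm_num⟩
  have ha1 : a ≠ 1 := by
    intro h
    rw [h, orderOf_one] at ha
    omega
  have ha22 : a ^ 22 = a⁻¹ := by
    rw [eq_inv_iff_mul_eq_one, ← pow_succ]
    have h23 : (22 + 1 : ℕ) = orderOf a := by rw [ha]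
    rw [h23, pow_orderOf_eq_one]
  refine co1o_abs_out_one 23 11 a c d 2 hpG hqG ha hc hca ?_ {1, 22} co1o_abs_reps_23 hdc hd3 hd1
    hd hgen ?_
  · intro h
    apply ha1
    have : a ^ 2 = a ^ 1 := by rw [pow_one]; exact h
    rw [pow_eq_pow_iff_modEq, ha] at this
    exact absurd this (by decide)
  · intro i hi e he
    have hi' : i = 1 ∨ i = 22 := by simpa using hi
    rcases hi' with rfl | rfl
    · rcases he with rfl | rfl
      · left
        exact ⟨pow_one a, zpow_one d⟩
      · right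
        rw [pow_one, zpow_neg_one]
        exact hw1
    · rcases he with rfl | rfl
      · right
        rw [ha22, zpow_one]
        exact hw2
      · right
        rw [ha22, zpow_neg_one]
        exact hw3

end Cfsg.Agent.Co1O
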