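import Mathlib
import Cfsg.Agent.Helper9.Golay.Prop
import Cfsg.Agent.Helper9.Golay.Orbit
import Cfsg.Agent.Helper9.LeechAct.Act

set_option autoImplicit false
set_option linter.unusedVariables false

/-!
# S2069 (`Out(Co₁) = 1`), package (ii), part A: the permutation `x ↦ 2x` of the 24 points

* `sig2 : Equiv.Perm GolayPt` (`∞ ↦ ∞`, `x ↦ 2x`), `sig2_mem : sig2 ∈ M24`;
* `co1o_cent_m24`: an element of `M24` commuting with `sig2` is a power of `sig2`;
* `co1o_inv_codeword`: the code words invariant under `sig2` are `∅`, everything, `{0} ∪ QR`, `{∞} ∪ NQR`.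
-/

namespace Cfsg.Agent.Co1O

open Cfsg Cfsg.Agent.Helper9.Golay Cfsg.Agent.Helper9.Leech Cfsg.Agent.Helper9.LeechAct

/-- the table of `x ↦ 2x`. -/
def sig2T : List ℕ := [0, 2, 4, 6, 8, 10, 12, 14, 16, 18, 20, 22, 1, 3, 5, 7, 9, 11, 13, 15, 17, 19, 21, 23]

/-- the table of `x ↦ 12x`. -/
def sig2T' : List ℕ := [0, 12, 1, 13, 2, 14, 3, 15, 4, 16, 5, 17, 6, 18, 7, 19, 8, 20, 9, 21, 10, 22, 11, 23]

theorem sig2T_inv : tblInvChk sig2T sig2T' = true := by decide

/-- the permutation `x ↦ 2x` of the projective line over the field with 23 elements. -/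
def sig2 : Equiv.Perm GolayPt := permOfTbl sig2T sig2T' sig2T_inv

theorem sig2_mem : sig2 ∈ M24 := permOfTbl_mem sig2T sig2T' sig2T_inv (by decide +kernel)

theorem sig2_none : sig2 none = none := by decide

theorem sig2_some : ∀ x : ZMod 23, sig2 (some x) = some (2 * x) := by decide

theorem sig2_pow_none (k : ℕ) : (sig2 ^ k) none = none := by
  induction k with
  | zero => rfl
  | succ n ih => rw [pow_succ', Equiv.Perm.mul_apply, ih, sig2_none]

theorem sig2_pow_some (k : ℕ) (x : ZMod 23) : (sig2 ^ k) (some x) = some (2 ^ k * x) := by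
  induction k with
  | zero => simp
  | succ n ih => rw [pow_succ', Equiv.Perm.mul_apply, ih, sig2_some, pow_succ]; congr 1; ring

theorem sig2_fixed : ∀ p : GolayPt, sig2 p = p → p = none ∨ p = some 0 := by decide

theorem zmod23_cases : ∀ y : ZMod 23, y ≠ 0 → ∃ k : ℕ, k < 11 ∧ (y = 2 ^ k ∨ y = 5 * 2 ^ k) := by decide

theorem qr_ne : ∀ k : ℕ, k < 11 → ∀ j : ℕ, j < 11 → (5 : ZMod 23) * 2 ^ k ≠ 2 ^ j := by decide

/-! ### the centralizer of `sig2` in the group of the code -/

theorem co1o_comm_pow_apply {τ : Equiv.Perm GolayPt} (h : Commute τ sig2) (j : ℕ) (p : GolayPt) :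
    τ ((sig2 ^ j) p) = (sig2 ^ j) (τ p) :=
  congrArg (fun f : Equiv.Perm GolayPt => f p) (h.pow_right j).eq

theorem co1o_comm_fixed_iff {τ : Equiv.Perm GolayPt} (h : Commute τ sig2) (p : GolayPt) :
    sig2 (τ p) = τ p ↔ sig2 p = p := by
  have h1 := co1o_comm_pow_apply h 1 p
  rw [pow_one] at h1
  rw [← h1]
  exact τ.injective.eq_iff

/-- a table of an element of the group of the code passes the check. -/
theorem co1o_m24Chk_of_mem {σ : Equiv.Perm GolayPt} (hσ : σ ∈ M24) {t : List ℕ} (ht : IsTbl σ t) :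
    m24Chk t = true := by
  unfold m24Chk
  rw [List.all_eq_true]
  intro b hb
  rw [List.contains_iff_mem]
  exact pullT_mem_codeList hσ ht (mem_spanL_of_mem hb)

/-- the steps of the propagation from the eleven squares. -/
def cent11Steps : List (List ℕ × List ℕ × ℕ) :=
  [([1, 9], [], 0), ([2, 5], [], 5), ([19], [], 7), ([1], [], 10), ([2], [], 11), ([4], [], 14),
    ([8], [], 15), ([32], [], 17), ([128], [], 19), ([256], [], 20), ([512], [], 21),
    ([1024], [], 22), ([], [], 23)]

theorem cent11Steps_run : runProp [] cent11Steps 340830 = some (2 ^ 24 - 1) := by decide +kernel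

theorem co1o_qr_of_bit : ∀ p : GolayPt, (340830 : ℕ).testBit (ptIdx p) = true →
    ∃ j : ℕ, j < 11 ∧ p = some (2 ^ j) := by decide

theorem co1o_cent_case1 {τ : Equiv.Perm GolayPt} (hτ : τ ∈ M24) (hc : Commute τ sig2)
    (h1 : τ (some 1) = some 1) : τ = 1 := by
  refine eq_one_of_runProp hτ (extra := []) (by simp) cent11Steps 340830 cent11Steps_run ?_
  intro p hp
  obtain ⟨j, -, rfl⟩ := co1o_qr_of_bit p hp
  have h := co1o_comm_pow_apply hc j (some 1)
  rw [sig2_pow_some, h1, sig2_pow_some, mul_one] at h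
  exact h

/-- the candidates for an element of the centralizer exchanging squares and non-squares. -/
def candFun (s : Bool) (e : ℕ) : GolayPt → GolayPt
  | none => if s then some 0 else none
  | some z => if z = 0 then (if s then none else some 0)
      else if z ^ 11 = 1 then some (5 * z) else some (14 * 2 ^ e * z)

theorem candFun_chk : ∀ e : ℕ, e < 11 → ∀ s : Bool, m24Chk (tblOf (candFun s e)) = false := by
  decide +kernel

theorem co1o_pow11 : ∀ j : ℕ, j < 11 → ((2 : ZMod 23) ^ j) ^ 11 = 1 ∧ (2 : ZMod 23) ^ j ≠ 0 ∧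
    ((5 : ZMod 23) * 2 ^ j) ^ 11 ≠ 1 ∧ (5 : ZMod 23) * 2 ^ j ≠ 0 := by decide

theorem co1o_cent_case2 {τ : Equiv.Perm GolayPt} (hτ : τ ∈ M24) (hc : Commute τ sig2)
    (h1 : τ (some 1) = some 5) : False := by
  have hQ : ∀ j : ℕ, τ (some (2 ^ j)) = some (5 * 2 ^ j) := by
    intro j
    have h := co1o_comm_pow_apply hc j (some 1)
    rw [sig2_pow_some, h1, sig2_pow_some, mul_one] at h
    rw [h, mul_comm]
  -- the image of `5`
  have h5 : ∃ e : ℕ, e < 11 ∧ τ (some 5) = some (2 ^ e) := by
    have hnf : ¬ (τ (some 5) = none ∨ τ (some 5) = some 0) := by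
      intro hf
      have hf' : sig2 (τ (some 5)) = τ (some 5) := by
        rcases hf with h | h <;> rw [h] <;> decide
      have := (co1o_comm_fixed_iff hc (some 5)).mp hf'
      exact absurd this (by decide)
    cases hv : τ (some 5) with
    | none => exact absurd (Or.inl hv) hnf
    | some v =>
      have hv0 : v ≠ 0 := by
        rintro rfl
        exact hnf (Or.inr hv)
      obtain ⟨e, he, hve⟩ := zmod23_cases v hv0
      rcases hve with rfl | rfl
      · exact ⟨e, he, rfl⟩
      · exfalso
        have h2 := hQ e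
        rw [← hv] at h2
        have h3 := τ.injective h2
        have h4 : (2 : ZMod 23) ^ e = 5 := Option.some.inj h3
        exact qr_ne 0 (by norm_num) e he (by rw [pow_zero, mul_one, h4])
  obtain ⟨e, he, h5e⟩ := h5
  have hN : ∀ j : ℕ, τ (some (5 * 2 ^ j)) = some (14 * 2 ^ e * (5 * 2 ^ j)) := by
    intro j
    have h := co1o_comm_pow_apply hc j (some 5)
    rw [sig2_pow_some, h5e, sig2_pow_some] at h
    rw [mul_comm, h]
    congr 1
    have h14 : (14 : ZMod 23) * 5 = 1 := by decide
    calc (2 : ZMod 23) ^ j * 2 ^ e = (14 * 5) * (2 ^ j * 2 ^ e) := by rw [h14, one_mul]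
      _ = 14 * 2 ^ e * (2 ^ j * 5) := by ring
  -- the fixed points
  have hfn : τ none = none ∨ τ none = some 0 :=
    sig2_fixed _ ((co1o_comm_fixed_iff hc none).mpr sig2_none)
  have hf0 : τ (some 0) = none ∨ τ (some 0) = some 0 :=
    sig2_fixed _ ((co1o_comm_fixed_iff hc (some 0)).mpr (by decide))
  have hne : τ none ≠ τ (some 0) := fun h => absurd (τ.injective h) (by decide)
  -- the candidate
  obtain ⟨s, hs⟩ : ∃ s : Bool, ∀ p, τ p = candFun s e p := by
    have hrest : ∀ z : ZMod 23, z ≠ 0 → ∀ s : Bool, τ (some z) = candFun s e (some z) := by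
      intro z hz s
      obtain ⟨j, hj, hzj⟩ := zmod23_cases z hz
      obtain ⟨p1, p2, p3, p4⟩ := co1o_pow11 j hj
      rcases hzj with rfl | rfl
      · rw [hQ]
        simp only [candFun]
        rw [if_neg p2, if_pos p1]
      · rw [hN]
        simp only [candFun]
        rw [if_neg p4, if_neg p3]
    rcases hfn with hn | hn
    · refine ⟨false, fun p => ?_⟩
      cases p with
      | none => rw [hn]; rfl
      | some z =>
        by_cases hz : z = 0
        · subst hz
          rcases hf0 with h0 | h0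
          · exact absurd (hn.trans h0.symm) hne
          · rw [h0]; rfl
        · exact hrest z hz false
    · refine ⟨true, fun p => ?_⟩
      cases p with
      | none => rw [hn]; rfl
      | some z =>
        by_cases hz : z = 0
        · subst hz
          rcases hf0 with h0 | h0
          · rw [h0]; rfl
          · exact absurd (hn.trans h0.symm) hne
        · exact hrest z hz true
  have htbl : tblOf τ = tblOf (candFun s e) := congrArg tblOf (funext hs)
  have hchk := co1o_m24Chk_of_mem hτ (isTbl_tblOf τ)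
  rw [htbl, candFun_chk e he s] at hchk
  exact absurd hchk (by simp)

/-- an element of the group of the code commuting with `sig2` is a power of `sig2`. -/
theorem co1o_cent_m24 {σ : Equiv.Perm GolayPt} (hσ : σ ∈ M24) (hc : σ * sig2 = sig2 * σ) :
    ∃ k : ℕ, σ = sig2 ^ k := by
  have hc' : Commute σ sig2 := hc
  have h1 : ¬ (σ (some 1) = none ∨ σ (some 1) = some 0) := by
    intro hf
    have hf' : sig2 (σ (some 1)) = σ (some 1) := by
      rcases hf with h | h <;> rw [h] <;> decide
    have := (co1o_comm_fixed_iff hc' (some 1)).mp hf'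
    exact absurd this (by decide)
  obtain ⟨y, hy⟩ : ∃ y, σ (some 1) = some y := by
    cases h : σ (some 1) with
    | none => exact absurd (Or.inl h) h1
    | some y => exact ⟨y, rfl⟩
  have hy0 : y ≠ 0 := by
    rintro rfl
    exact h1 (Or.inr hy)
  obtain ⟨k, hk, hyk⟩ := zmod23_cases y hy0
  refine ⟨k, ?_⟩
  have hτ : (sig2 ^ k)⁻¹ * σ ∈ M24 := M24.mul_mem (M24.inv_mem (M24.pow_mem sig2_mem k)) hσ
  have hτc : Commute ((sig2 ^ k)⁻¹ * σ) sig2 :=
    (((Commute.refl sig2).pow_left k).inv_left).mul_left hc'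
  have hval : ∀ w : ZMod 23, σ (some 1) = some (w * 2 ^ k) →
      ((sig2 ^ k)⁻¹ * σ) (some 1) = some w := by
    intro w hw
    rw [Equiv.Perm.mul_apply, hw, Equiv.Perm.inv_eq_iff_eq, sig2_pow_some, mul_comm]
  rcases hyk with rfl | rfl
  · have h := co1o_cent_case1 hτ hτc (hval 1 (by rw [hy, one_mul]))
    rw [inv_mul_eq_one] at h
    exact h.symm
  · exact (co1o_cent_case2 hτ hτc (hval 5 hy)).elim

/-! ### the code words invariant under `sig2` -/

theorem co1o_inv_masks : codeList.filter (fun m => pullT sig2T m == m) =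
    [0, 0x5335f, 0xfacca0, 0xffffff] := by decide +kernel

/-- a code word invariant under `sig2` is one of four. -/
theorem co1o_inv_codeword4 {c : Finset GolayPt}
    (hc : c ∈ supports (golayCode : Set (GolayPt → ZMod 2))) (hinv : ∀ p, sig2 p ∈ c ↔ p ∈ c) :
    ∃ m : ℕ, m ∈ [0, 0x5335f, 0xfacca0, 0xffffff] ∧ suppM m = c := by
  obtain ⟨m, hm, rfl⟩ := (mem_supports_iff c).mp hc
  have hpull : pullT sig2T m = m := by
    apply support₂_decW_injOn (pullT_lt _ _) (codeList_lt hm)
    change suppM (pullT sig2T m) = suppM m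
    rw [suppM_pullT (isTbl_permOfTbl sig2T sig2T' sig2T_inv)]
    ext p
    constructor
    · intro hp
      obtain ⟨q, hq, rfl⟩ := Finset.mem_smul_finset.mp hp
      have h3 : sig2 ((sig2⁻¹ : Equiv.Perm GolayPt) q) = q := sig2.apply_symm_apply q
      exact (hinv ((sig2⁻¹ : Equiv.Perm GolayPt) q)).mp (by rw [h3]; exact hq)
    · intro hp
      have h3 : sig2 p ∈ suppM m := (hinv p).mpr hp
      have h4 := Finset.smul_mem_smul_finset (a := (sig2⁻¹ : Equiv.Perm GolayPt)) h3
      have h5 : (sig2⁻¹ : Equiv.Perm GolayPt) • sig2 p = p := sig2.symm_apply_apply p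
      rwa [h5] at h4
  have hmem : m ∈ codeList.filter (fun m => pullT sig2T m == m) := by
    rw [List.mem_filter]
    exact ⟨hm, by rw [hpull]; exact beq_self_eq_true m⟩
  rw [co1o_inv_masks] at hmem
  exact ⟨m, hmem, rfl⟩

/-- a code word invariant under `sig2` avoiding the two fixed points is empty. -/
theorem co1o_inv_codeword {c : Finset GolayPt}
    (hc : c ∈ supports (golayCode : Set (GolayPt → ZMod 2))) (hinv : ∀ p, sig2 p ∈ c ↔ p ∈ c)
    (h1 : none ∉ c) (h2 : some 0 ∉ c) : c = ∅ := by
  obtain ⟨m, hmem, rfl⟩ := co1o_inv_codeword4 hc hinv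
  rw [mem_suppM] at h1 h2
  simp only [List.mem_cons, List.not_mem_nil, or_false] at hmem
  rcases hmem with rfl | rfl | rfl | rfl
  · exact suppM_zero
  · exact absurd (by decide) h2
  · exact absurd (by decide) h1
  · exact absurd (by decide) h1

end Cfsg.Agent.Co1O
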