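import Mathlib
import Cfsg.Agent.Co1O.Cent11A
import Cfsg.Agent.Helper9.Leech.MonoStructC
import Cfsg.Agent.Helper9.Leech.MinVec
import Cfsg.Agent.Helper9.Leech.Frame
import Cfsg.Agent.Helper9.Leech.Co1C

set_option autoImplicit false
set_option linter.unusedVariables false

/-!
# S2069 (`Out(Co₁) = 1`), package (ii), part B: the centralizer of the monomial automorphism of
`x ↦ 2x` in the automorphism group of the lattice has at most 132 elements

* `co1o_chat : ↥Co0`, the coordinate permutation `x ↦ 2x`; `co1o_chat_smul_e8`, `co1o_chat_unique`;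
* the vectors of the lattice of norm 32 fixed by `co1o_chat` are determined by four coordinates,
  which take at most twelve values (`co1o_key_inj`, `co1o_key_mem`);
* an element of the centralizer fixing `std1 = (4, 4, 0, …)` is a power of `co1o_chat`
  (`co1o_stab_pow`);
* `co1o_card_C : Nat.card ↥co1o_C ≤ 132`.
-/

namespace Cfsg.Agent.Co1O

open Cfsg Cfsg.Agent.Helper9.Golay Cfsg.Agent.Helper9.Leech Cfsg.Agent.Helper9.Leech.Mono

/-- the coordinate permutation `x ↦ 2x`, as an automorphism of the lattice. -/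
def co1o_chat : ↥Co0 := monoEl sig2 sig2_mem ∅ Spor.empty_mem_supports_golayCode

theorem co1o_chat_apply (v : ↥leechLattice) (i : GolayPt) :
    ((co1o_chat • v : ↥leechLattice) : GolayPt → ℤ) i = (v : GolayPt → ℤ) (sig2.symm i) := by
  change signedPerm sig2 ∅ (v : GolayPt → ℤ) i = _
  unfold signedPerm
  rw [if_neg (Finset.notMem_empty i)]

theorem co1o_inv_of_fixed {v : ↥leechLattice} (h : co1o_chat • v = v) (i : GolayPt) :
    (v : GolayPt → ℤ) (sig2 i) = (v : GolayPt → ℤ) i := by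
  have h1 := co1o_chat_apply v (sig2 i)
  rw [h, Equiv.symm_apply_apply] at h1
  exact h1

theorem co1o_fixed_of_inv {v : ↥leechLattice}
    (h : ∀ i, (v : GolayPt → ℤ) (sig2 i) = (v : GolayPt → ℤ) i) : co1o_chat • v = v := by
  apply Subtype.ext
  funext i
  rw [co1o_chat_apply]
  have h1 := h (sig2.symm i)
  rw [Equiv.apply_symm_apply] at h1
  exact h1.symm

theorem co1o_chat_smul_e8 (i : GolayPt) : co1o_chat • e8 i = e8 (sig2 i) := by
  apply Subtype.ext
  funext j
  rw [co1o_chat_apply, e8_apply, e8_apply]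
  by_cases h : j = sig2 i
  · rw [if_pos h, if_pos (by rw [h, Equiv.symm_apply_apply])]
  · rw [if_neg h, if_neg (fun h' => h (by rw [← h', Equiv.apply_symm_apply]))]

/-- two automorphisms of the lattice agreeing on the vectors `e8 i` are equal. -/
theorem co1o_ext_e8 {g h : ↥Co0} (H : ∀ i, g • e8 i = h • e8 i) : g = h := by
  have h1 : ∀ i, ((h⁻¹ * g : ↥Co0) : Equiv.Perm ↥leechLattice) (e8 i) = (1 : ℤ) • e8 i := by
    intro i
    rw [one_smul]
    change (h⁻¹ * g) • e8 i = e8 i
    rw [mul_smul', H i, inv_smul_smul']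
  have h2 : h⁻¹ * g = 1 := by
    apply Subtype.ext
    apply Equiv.ext
    intro v
    rw [lin_of_e8 (h⁻¹ * g).2 1 h1 v, one_smul]
    rfl
  rw [inv_mul_eq_one] at h2
  exact h2.symm

/-- `co1o_chat` is the automorphism of the lattice mapping `e8 i` to `e8 (sig2 i)`. -/
theorem co1o_chat_unique {g : ↥Co0} (h : ∀ i, g • e8 i = e8 (sig2 i)) : g = co1o_chat :=
  co1o_ext_e8 (fun i => by rw [h i, co1o_chat_smul_e8])

/-! ### the four coordinates of a fixed vector -/

/-- the coordinates of a vector at the points `∞`, `0`, `1`, `5`. -/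
def co1o_key (x : GolayPt → ℤ) : ℤ × ℤ × ℤ × ℤ := (x none, x (some 0), x (some 1), x (some 5))

theorem co1o_inv_pow {x : GolayPt → ℤ} (hx : ∀ i, x (sig2 i) = x i) (k : ℕ) (i : GolayPt) :
    x ((sig2 ^ k) i) = x i := by
  induction k with
  | zero => rfl
  | succ n ih => rw [pow_succ', Equiv.Perm.mul_apply, hx, ih]

theorem co1o_key_inj {x y : GolayPt → ℤ} (hx : ∀ i, x (sig2 i) = x i)
    (hy : ∀ i, y (sig2 i) = y i) (h : co1o_key x = co1o_key y) : x = y := by
  unfold co1o_key at h
  simp only [Prod.mk.injEq] at h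
  obtain ⟨h1, h2, h3, h4⟩ := h
  funext p
  cases p with
  | none => exact h1
  | some z =>
    by_cases hz : z = 0
    · subst hz; exact h2
    · obtain ⟨k, -, hk⟩ := zmod23_cases z hz
      rcases hk with rfl | rfl
      · have e : (sig2 ^ k) (some 1) = some (2 ^ k) := by rw [sig2_pow_some, mul_one]
        rw [← e, co1o_inv_pow hx, co1o_inv_pow hy]
        exact h3
      · have e : (sig2 ^ k) (some 5) = some (5 * 2 ^ k) := by rw [sig2_pow_some, mul_comm]
        rw [← e, co1o_inv_pow hx, co1o_inv_pow hy]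
        exact h4

/-- the twelve values of the four coordinates. -/
def co1o_keys : List (ℤ × ℤ × ℤ × ℤ) :=
  [(4, 4, 0, 0), (4, -4, 0, 0), (-4, 4, 0, 0), (-4, -4, 0, 0),
    (-3, 1, 1, 1), (-3, -1, -1, 1), (3, 1, 1, -1), (3, -1, -1, -1),
    (1, -3, 1, 1), (1, 3, -1, 1), (-1, -3, 1, -1), (-1, 3, -1, -1)]

theorem co1o_sig2_sq_ne : ∀ p : GolayPt, sig2 p ≠ p → sig2 (sig2 p) ≠ p := by decide

theorem co1o_key_mem {x : GolayPt → ℤ} (hx : x ∈ leechLattice) (hn : sqNorm x = 32)
    (hinv : ∀ i, x (sig2 i) = x i) : co1o_key x ∈ co1o_keys := by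
  rcases Int.emod_two_eq_zero_or_one (x none) with h0 | h1
  · rcases even_min_classify hx hn h0 with ⟨o, s, ho, hs, he, rfl⟩ | ⟨P, s, hP, hs, rfl⟩
    · exfalso
      have hoinv : ∀ p, sig2 p ∈ o ↔ p ∈ o := by
        intro p
        rw [mem_P_iff (by norm_num : (0 : ℤ) < 2) hs, mem_P_iff (by norm_num : (0 : ℤ) < 2) hs,
          hinv]
      obtain ⟨m, hm, hmo⟩ := co1o_inv_codeword4 ho.1 hoinv
      have hcard : (suppM m).card = 8 := by rw [hmo]; exact ho.2
      rw [card_suppM] at hcard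
      simp only [List.mem_cons, List.not_mem_nil, or_false] at hm
      rcases hm with rfl | rfl | rfl | rfl <;> exact absurd hcard (by decide)
    · have hPinv : ∀ p, sig2 p ∈ P ↔ p ∈ P := by
        intro p
        rw [mem_P_iff (by norm_num : (0 : ℤ) < 4) hs, mem_P_iff (by norm_num : (0 : ℤ) < 4) hs,
          hinv]
      have hPfix : ∀ p ∈ P, p = none ∨ p = some 0 := by
        intro p hp
        apply sig2_fixed
        by_contra hne
        have h3 : 2 < P.card := by
          rw [Finset.two_lt_card_iff]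
          refine ⟨p, sig2 p, sig2 (sig2 p), hp, (hPinv p).mpr hp,
            (hPinv _).mpr ((hPinv p).mpr hp), ?_, ?_, ?_⟩
          · exact fun h => hne h.symm
          · exact fun h => co1o_sig2_sq_ne p hne h.symm
          · exact fun h => hne (sig2.injective h.symm)
        omega
      have hPeq : P = {none, some 0} := by
        apply Finset.eq_of_subset_of_card_le
        · intro p hp
          rcases hPfix p hp with rfl | rfl <;> simp
        · rw [hP]; decide
      subst hPeq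
      have hn1 : (some 1 : GolayPt) ∉ ({none, some 0} : Finset GolayPt) := by decide
      have hn5 : (some 5 : GolayPt) ∉ ({none, some 0} : Finset GolayPt) := by decide
      have e1 : pat 4 {none, some 0} s (some 1) = 0 := pat_of_notMem (fun h => hn1 (hs h)) hn1
      have e5 : pat 4 {none, some 0} s (some 5) = 0 := pat_of_notMem (fun h => hn5 (hs h)) hn5
      have en : pat 4 {none, some 0} s none = 4 ∨ pat 4 {none, some 0} s none = -4 := by
        by_cases h : none ∈ s
        · right; exact pat_of_mem_s h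
        · left; exact pat_of_mem_P h (by decide)
      have e0 : pat 4 {none, some 0} s (some 0) = 4 ∨ pat 4 {none, some 0} s (some 0) = -4 := by
        by_cases h : some 0 ∈ s
        · right; exact pat_of_mem_s h
        · left; exact pat_of_mem_P h (by decide)
      unfold co1o_key
      rw [e1, e5]
      rcases en with h | h <;> rcases e0 with h' | h' <;> rw [h, h'] <;> decide
  · obtain ⟨j, c, hc, rfl⟩ := odd_min_classify hx hn h1
    have hj : j = none ∨ j = some 0 := by
      apply sig2_fixed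
      by_contra hne
      have h2 := oddVec_sq j c (sig2 j)
      rw [hinv j, oddVec_sq, if_pos rfl, if_neg hne] at h2
      norm_num at h2
    have hcinv : ∀ p, sig2 p ∈ c ↔ p ∈ c := by
      intro p
      rw [mem_c_iff j c, mem_c_iff j c, hinv]
    obtain ⟨m, hm, rfl⟩ := co1o_inv_codeword4 hc hcinv
    simp only [List.mem_cons, List.not_mem_nil, or_false] at hm
    unfold co1o_key
    simp only [oddVec_apply, mem_suppM, baseOdd]
    rcases hj with rfl | rfl <;> rcases hm with rfl | rfl | rfl | rfl <;> decide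

/-! ### the centralizer -/

/-- the centralizer of `co1o_chat`. -/
def co1o_C : Subgroup ↥Co0 := Subgroup.centralizer {co1o_chat}

theorem co1o_mem_C (g : ↥Co0) : g ∈ co1o_C ↔ g * co1o_chat = co1o_chat * g := by
  unfold co1o_C
  rw [Subgroup.mem_centralizer_iff]
  constructor
  · intro h
    exact (h co1o_chat rfl).symm
  · intro h x hx
    rw [Set.mem_singleton_iff] at hx
    rw [hx]
    exact h.symm

/-- the vectors of norm 32 fixed by `co1o_chat`. -/
def co1o_Inv : Set ↥leechLattice :=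
  {v | co1o_chat • v = v ∧ sqNorm (v : GolayPt → ℤ) = 32}

theorem co1o_ncard_le {S : Set ↥leechLattice} (hS : S ⊆ co1o_Inv) : S.ncard ≤ 12 := by
  have h1 : S.ncard ≤ (↑(co1o_keys.toFinset) : Set (ℤ × ℤ × ℤ × ℤ)).ncard := by
    refine Set.ncard_le_ncard_of_injOn (fun v : ↥leechLattice => co1o_key (v : GolayPt → ℤ)) ?_ ?_
      (Finset.finite_toSet _)
    · intro v hv
      rw [Finset.mem_coe, List.mem_toFinset]
      exact co1o_key_mem v.2 (hS hv).2 (co1o_inv_of_fixed (hS hv).1)
    · intro v hv w hw h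
      exact Subtype.ext
        (co1o_key_inj (co1o_inv_of_fixed (hS hv).1) (co1o_inv_of_fixed (hS hw).1) h)
  rw [Set.ncard_coe_finset] at h1
  exact h1.trans (List.toFinset_card_le _)

theorem co1o_smul_mem_Inv {g : ↥Co0} (hg : g ∈ co1o_C) {v : ↥leechLattice} (hv : v ∈ co1o_Inv) :
    g • v ∈ co1o_Inv := by
  refine ⟨?_, ?_⟩
  · rw [← mul_smul', ← (co1o_mem_C g).mp hg, mul_smul', hv.1]
  · have := g.2.2 v
    rw [← hv.2]
    exact this

/-! ### the standard pair -/

theorem co1o_sig2_iff : ∀ i : GolayPt, (sig2 i = none ↔ i = none) ∧ (sig2 i = some 0 ↔ i = some 0) := by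
  decide

theorem co1o_std1_apply (p : GolayPt) : (std1 : GolayPt → ℤ) p =
    2 * ((if p = none then 2 else 0) + (if p = some 0 then 2 else 0)) := Wv_apply _ _ _ _ p

theorem co1o_std2_apply (p : GolayPt) : (std2 : GolayPt → ℤ) p =
    2 * ((if p = none then 2 else 0) + (if p = some 0 then -2 else 0)) := Wv_apply _ _ _ _ p

theorem co1o_std1_inv (i : GolayPt) : (std1 : GolayPt → ℤ) (sig2 i) = (std1 : GolayPt → ℤ) i := by
  rw [co1o_std1_apply, co1o_std1_apply]
  simp only [(co1o_sig2_iff i).1, (co1o_sig2_iff i).2]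

theorem co1o_std2_inv (i : GolayPt) : (std2 : GolayPt → ℤ) (sig2 i) = (std2 : GolayPt → ℤ) i := by
  rw [co1o_std2_apply, co1o_std2_apply]
  simp only [(co1o_sig2_iff i).1, (co1o_sig2_iff i).2]

theorem co1o_sqNorm_std1 : sqNorm (std1 : GolayPt → ℤ) = 32 :=
  sqNorm_Wv (by decide) (Or.inl rfl) (Or.inl rfl)

theorem co1o_sqNorm_std2 : sqNorm (std2 : GolayPt → ℤ) = 32 :=
  sqNorm_Wv (by decide) (Or.inl rfl) (Or.inr rfl)

theorem co1o_std1_mem : std1 ∈ co1o_Inv := ⟨co1o_fixed_of_inv co1o_std1_inv, co1o_sqNorm_std1⟩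

theorem co1o_std2_mem : std2 ∈ co1o_Inv := ⟨co1o_fixed_of_inv co1o_std2_inv, co1o_sqNorm_std2⟩

theorem co1o_dot_std1 (x : GolayPt → ℤ) :
    dotInt x (std1 : GolayPt → ℤ) = 4 * x none + 4 * x (some 0) := by
  unfold dotInt
  have h : ∀ i : GolayPt, x i * (std1 : GolayPt → ℤ) i =
      (if i = none then 4 * x i else 0) + (if i = some 0 then 4 * x i else 0) := by
    intro i
    rw [co1o_std1_apply]
    split_ifs <;> ring
  simp only [h, Finset.sum_add_distrib, Finset.sum_ite_eq', Finset.mem_univ, if_true]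

theorem co1o_keys_orth : ∀ k ∈ co1o_keys, k.1 + k.2.1 = 0 →
    k = (4, -4, 0, 0) ∨ k = (-4, 4, 0, 0) := by decide

theorem co1o_key_std2 : co1o_key (std2 : GolayPt → ℤ) = (4, -4, 0, 0) := by
  unfold co1o_key
  simp only [co1o_std2_apply]
  decide

theorem co1o_key_neg_std2 : co1o_key ((-std2 : ↥leechLattice) : GolayPt → ℤ) = (-4, 4, 0, 0) := by
  unfold co1o_key
  simp only [AddSubgroup.coe_neg, Pi.neg_apply, co1o_std2_apply]
  decide

/-- a vector of norm 32 fixed by `co1o_chat` and orthogonal to `std1` is `std2` or `-std2`. -/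
theorem co1o_orth {w : ↥leechLattice} (hw : w ∈ co1o_Inv)
    (hdot : dotInt (w : GolayPt → ℤ) (std1 : GolayPt → ℤ) = 0) : w = std2 ∨ w = -std2 := by
  have hk := co1o_key_mem w.2 hw.2 (co1o_inv_of_fixed hw.1)
  rw [co1o_dot_std1] at hdot
  have h0 : (co1o_key (w : GolayPt → ℤ)).1 + (co1o_key (w : GolayPt → ℤ)).2.1 = 0 := by
    unfold co1o_key
    simp only
    omega
  rcases co1o_keys_orth _ hk h0 with h | h
  · left
    apply Subtype.ext
    exact co1o_key_inj (co1o_inv_of_fixed hw.1) co1o_std2_inv (h.trans co1o_key_std2.symm)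
  · right
    apply Subtype.ext
    refine co1o_key_inj (co1o_inv_of_fixed hw.1) ?_ (h.trans co1o_key_neg_std2.symm)
    intro i
    rw [AddSubgroup.coe_neg, Pi.neg_apply, Pi.neg_apply, co1o_std2_inv]

/-- an element of the centralizer fixing `std1` stabilizes the standard cross. -/
theorem co1o_stab_mem_NN {g : ↥Co0} (hg : g ∈ co1o_C) (h1 : g • std1 = std1) : g ∈ NN := by
  have hw := co1o_smul_mem_Inv hg co1o_std2_mem
  have hdot : dotInt ((g • std2 : ↥leechLattice) : GolayPt → ℤ) (std1 : GolayPt → ℤ) = 0 := by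
    have h2 := co0_dot g std2 std1
    rw [h1] at h2
    rw [h2, co1o_dot_std1, co1o_std2_apply, co1o_std2_apply]
    decide
  rw [mem_NN_iff_cong]
  rcases co1o_orth hw hdot with h | h
  · refine ⟨0, ?_⟩
    rw [← std_add, smul_add', h1, h]
    abel
  · refine ⟨-std2, ?_⟩
    rw [← std_add, smul_add', h1, h]
    abel

/-! ### the stabilizer of `std1` in the centralizer -/

theorem co1o_chat_mem_C : co1o_chat ∈ co1o_C := (co1o_mem_C co1o_chat).mpr rfl

theorem co1o_chat_mem_NN : co1o_chat ∈ NN := monoEl_mem_NN _ _ _ _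

theorem co1o_permHom_chat : Mono.permHom ⟨co1o_chat, co1o_chat_mem_NN⟩ = ⟨sig2, sig2_mem⟩ :=
  permHom_monoEl _ _ _ _

/-- an element of the stabilizer of the cross with trivial permutation part changes signs on a
code word. -/
theorem co1o_sign_apply {h : ↥Co0} (hh : h ∈ NN) (hp : Mono.permHom ⟨h, hh⟩ = 1) :
    ∃ c ∈ supports (golayCode : Set (GolayPt → ZMod 2)), ∀ (v : ↥leechLattice) (i : GolayPt),
      ((h • v : ↥leechLattice) : GolayPt → ℤ) i =
        if i ∈ c then -(v : GolayPt → ℤ) i else (v : GolayPt → ℤ) i := by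
  obtain ⟨c, hc, hh'⟩ := exists_monoEl ⟨h, hh⟩
  refine ⟨c, hc, fun v i => ?_⟩
  have h1 : ((Mono.permHom ⟨h, hh⟩ : ↥M24) : Equiv.Perm GolayPt) = 1 := by rw [hp]; rfl
  have h2 : (h • v : ↥leechLattice) =
      monoEl (Mono.permHom ⟨h, hh⟩ : Equiv.Perm GolayPt) (Mono.permHom ⟨h, hh⟩).2 c hc • v := by
    rw [← hh']
  rw [h2]
  change signedPerm (Mono.permHom ⟨h, hh⟩ : Equiv.Perm GolayPt) c (v : GolayPt → ℤ) i = _
  unfold signedPerm
  rw [h1]
  rfl

/-- an element of the centralizer with trivial permutation part fixing `std1` is trivial. -/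
theorem co1o_sign_one {h : ↥Co0} (hhC : h ∈ co1o_C) (hhN : h ∈ NN)
    (hhp : Mono.permHom ⟨h, hhN⟩ = 1) (hh1 : h • std1 = std1) : h = 1 := by
  obtain ⟨c, hc, hact⟩ := co1o_sign_apply hhN hhp
  have hcn : none ∉ c := by
    intro hin
    have h4 := hact std1 none
    rw [hh1, if_pos hin, co1o_std1_apply] at h4
    simp at h4
  have hc0 : some 0 ∉ c := by
    intro hin
    have h4 := hact std1 (some 0)
    rw [hh1, if_pos hin, co1o_std1_apply] at h4
    simp at h4
  have hcinv : ∀ p, sig2 p ∈ c ↔ p ∈ c := by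
    intro p
    have e := (co1o_mem_C _).mp hhC
    have e1 : ((h • (co1o_chat • e8 p) : ↥leechLattice) : GolayPt → ℤ) (sig2 p) =
        ((co1o_chat • (h • e8 p) : ↥leechLattice) : GolayPt → ℤ) (sig2 p) := by
      rw [← mul_smul', ← mul_smul', e]
    rw [hact, co1o_chat_smul_e8, co1o_chat_apply, hact, Equiv.symm_apply_apply, e8_apply,
      e8_apply, if_pos rfl, if_pos rfl] at e1
    by_cases ha : sig2 p ∈ c <;> by_cases hb : p ∈ c <;> simp [ha, hb] at e1 ⊢
  have hce := co1o_inv_codeword hc hcinv hcn hc0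
  apply Subtype.ext
  apply Equiv.ext
  intro v
  apply Subtype.ext
  funext i
  have h4 := hact v i
  rw [hce, if_neg (Finset.notMem_empty i)] at h4
  exact h4

/-- an element of the centralizer fixing `std1` is a power of `co1o_chat`. -/
theorem co1o_stab_pow {g : ↥Co0} (hg : g ∈ co1o_C) (h1 : g • std1 = std1) :
    ∃ k : ℕ, g = co1o_chat ^ k := by
  have hgN := co1o_stab_mem_NN hg h1
  have hcomm : (⟨g, hgN⟩ : ↥NN) * ⟨co1o_chat, co1o_chat_mem_NN⟩ =
      ⟨co1o_chat, co1o_chat_mem_NN⟩ * ⟨g, hgN⟩ := Subtype.ext ((co1o_mem_C g).mp hg)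
  have h2 := congrArg Mono.permHom hcomm
  rw [map_mul, map_mul, co1o_permHom_chat] at h2
  have h3 : ((Mono.permHom ⟨g, hgN⟩ : ↥M24) : Equiv.Perm GolayPt) * sig2 =
      sig2 * (Mono.permHom ⟨g, hgN⟩ : ↥M24) := congrArg Subtype.val h2
  obtain ⟨k, hk⟩ := co1o_cent_m24 (Mono.permHom ⟨g, hgN⟩).2 h3
  refine ⟨k, ?_⟩
  have hhC : (co1o_chat ^ k)⁻¹ * g ∈ co1o_C :=
    co1o_C.mul_mem (co1o_C.inv_mem (co1o_C.pow_mem co1o_chat_mem_C k)) hg
  have hhN : (co1o_chat ^ k)⁻¹ * g ∈ NN :=
    NN.mul_mem (NN.inv_mem (NN.pow_mem co1o_chat_mem_NN k)) hgN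
  have hhp : Mono.permHom ⟨(co1o_chat ^ k)⁻¹ * g, hhN⟩ = 1 := by
    have e : (⟨(co1o_chat ^ k)⁻¹ * g, hhN⟩ : ↥NN) =
        (⟨co1o_chat, co1o_chat_mem_NN⟩ ^ k)⁻¹ * ⟨g, hgN⟩ := Subtype.ext rfl
    rw [e, map_mul, map_inv, map_pow, co1o_permHom_chat]
    have e2 : Mono.permHom ⟨g, hgN⟩ = (⟨sig2, sig2_mem⟩ : ↥M24) ^ k := Subtype.ext hk
    rw [e2, inv_mul_cancel]
  have hh1 : ((co1o_chat ^ k)⁻¹ * g) • std1 = std1 := by
    rw [mul_smul', h1]
    have hs : co1o_chat ∈ MulAction.stabilizer ↥Co0 std1 := co1o_std1_mem.1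
    exact (MulAction.stabilizer ↥Co0 std1).inv_mem ((MulAction.stabilizer ↥Co0 std1).pow_mem hs k)
  have hone := co1o_sign_one hhC hhN hhp hh1
  rw [inv_mul_eq_one] at hone
  exact hone.symm

/-! ### the order of `co1o_chat` and of its centralizer -/

theorem co1o_finite_co0 : Finite ↥Co0 := Nat.finite_of_card_ne_zero (by rw [card_co0]; norm_num)

theorem co1o_sig2_pow : sig2 ^ 11 = 1 := by
  apply Equiv.ext
  intro p
  cases p with
  | none => exact sig2_pow_none 11
  | some x =>
    rw [sig2_pow_some]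
    have : (2 : ZMod 23) ^ 11 = 1 := by decide
    rw [this, one_mul]
    rfl

theorem co1o_chat_pow : co1o_chat ^ 11 = 1 := by
  have e : co1o_chat = permSec ⟨sig2, sig2_mem⟩ := rfl
  rw [e, ← map_pow]
  have : (⟨sig2, sig2_mem⟩ : ↥M24) ^ 11 = 1 := Subtype.ext co1o_sig2_pow
  rw [this, map_one]

theorem co1o_chat_ne_one : co1o_chat ≠ 1 := by
  intro h
  have h1 := co1o_chat_smul_e8 (some 1)
  rw [h, one_smul] at h1
  have h2 := e8_inj (Or.inl h1)
  exact absurd h2 (by decide)

theorem co1o_orderOf_chat : orderOf co1o_chat = 11 := by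
  haveI : Fact (Nat.Prime 11) := ⟨by norm_num⟩
  exact orderOf_eq_prime co1o_chat_pow co1o_chat_ne_one

/-- the centralizer of `co1o_chat` has at most 132 elements. -/
theorem co1o_card_C : Nat.card ↥co1o_C ≤ 132 := by
  haveI := co1o_finite_co0
  have h1 := Subgroup.index_mul_card (MulAction.stabilizer ↥co1o_C std1)
  rw [MulAction.index_stabilizer] at h1
  have h2 : (MulAction.orbit ↥co1o_C std1).ncard ≤ 12 := by
    apply co1o_ncard_le
    rintro _ ⟨g, rfl⟩
    exact co1o_smul_mem_Inv g.2 co1o_std1_mem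
  have h3 : Nat.card ↥(MulAction.stabilizer ↥co1o_C std1) ≤ 11 := by
    have hmem : ∀ s : ↥(MulAction.stabilizer ↥co1o_C std1),
        ((s : ↥co1o_C) : ↥Co0) ∈ Subgroup.zpowers co1o_chat := by
      intro s
      obtain ⟨k, hk⟩ := co1o_stab_pow s.1.2 (MulAction.mem_stabilizer_iff.mp s.2)
      rw [hk]
      exact Subgroup.npow_mem_zpowers co1o_chat k
    have hinj : Function.Injective
        (fun s : ↥(MulAction.stabilizer ↥co1o_C std1) =>
          (⟨((s : ↥co1o_C) : ↥Co0), hmem s⟩ : ↥(Subgroup.zpowers co1o_chat))) := by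
      intro s t hst
      have := congrArg Subtype.val hst
      exact Subtype.ext (Subtype.ext this)
    have h4 := Nat.card_le_card_of_injective _ hinj
    rw [Nat.card_zpowers, co1o_orderOf_chat] at h4
    exact h4
  calc Nat.card ↥co1o_C
      = (MulAction.orbit ↥co1o_C std1).ncard * Nat.card ↥(MulAction.stabilizer ↥co1o_C std1) :=
        h1.symm
    _ ≤ 12 * 11 := Nat.mul_le_mul h2 h3
    _ = 132 := by norm_num

end Cfsg.Agent.Co1O
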