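import Mathlib
import Cfsg.Agent.Co1O.Cent11B

set_option autoImplicit false
set_option linter.unusedVariables false

/-!
# S2069 (`Out(Co₁) = 1`), package (ii), part C: the elements of order 3 centralizing the image of
`x ↦ 2x` in the quotient by the centre

* `co1o_order3_abs`: in a finite group, if the centralizer of an element `c` of order 11 has at most
  132 elements and contains a central involution and an element `d` of order 3, then its elements
  of order dividing 3 are `1`, `d`, `d⁻¹`;
* `co1o_hd`: for every `dhat : ↥Co0` of order 3 commuting with `co1o_chat`, the elements `x ≠ 1` of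
  `Co₁` with `x ^ 3 = 1` commuting with `proj0 co1o_chat` are `proj0 dhat` and its inverse.

An element of `↥Co0` commuting with `co1o_chat` modulo the centre commutes with it: otherwise it
would conjugate `co1o_chat`, of order 11, to `negEl * co1o_chat`, whose 11th power is `negEl ≠ 1`.
-/

namespace Cfsg.Agent.Co1O

open Cfsg Cfsg.Agent.Helper9.Golay Cfsg.Agent.Helper9.Leech Cfsg.Agent.Helper9.Leech.Mono

/-- the elements of order dividing 3 of a small centralizer. -/
theorem co1o_order3_abs {G : Type*} [Group G] [Finite G] (c z d : G) (hc : orderOf c = 11)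
    (hz : orderOf z = 2) (hzc : ∀ g : G, z * g = g * z) (hd3 : d ^ 3 = 1) (hd1 : d ≠ 1)
    (hdc : d * c = c * d)
    (hcard : Nat.card ↥(Subgroup.centralizer ({c} : Set G)) ≤ 132)
    (x : G) (hx : x * c = c * x) (hx3 : x ^ 3 = 1) : x = 1 ∨ x = d ∨ x = d⁻¹ := by
  haveI : Fact (Nat.Prime 3) := ⟨by norm_num⟩
  have hd : orderOf d = 3 := orderOf_eq_prime hd3 hd1
  have hcz : Commute c z := (hzc c).symm
  have hcd : Commute c d := hdc.symm
  have hzd : Commute z d := hzc d
  have hcz22 : orderOf (c * z) = 22 := by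
    rw [hcz.orderOf_mul_eq_mul_orderOf_of_coprime (by rw [hc, hz]; decide), hc, hz]
  have hw : orderOf (c * z * d) = 66 := by
    rw [(hcd.mul_left hzd).orderOf_mul_eq_mul_orderOf_of_coprime (by rw [hcz22, hd]; decide),
      hcz22, hd]
  -- the cyclic subgroup of order 66 lies in the centralizer
  have hmemC : ∀ g : G, g ∈ Subgroup.centralizer ({c} : Set G) ↔ g * c = c * g := by
    intro g
    rw [Subgroup.mem_centralizer_iff]
    constructor
    · intro h
      exact (h c rfl).symm
    · intro h y hy
      rw [Set.mem_singleton_iff] at hy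
      rw [hy]
      exact h.symm
  have hwC : c * z * d ∈ Subgroup.centralizer ({c} : Set G) := by
    rw [hmemC]
    exact (((Commute.refl c).mul_left hcz.symm).mul_left hcd.symm).eq
  have hle : Subgroup.zpowers (c * z * d) ≤ Subgroup.centralizer ({c} : Set G) :=
    (Subgroup.zpowers_le).mpr hwC
  have hZ : Nat.card ↥(Subgroup.zpowers (c * z * d)) = 66 := by rw [Nat.card_zpowers, hw]
  have hxC : x ∈ Subgroup.centralizer ({c} : Set G) := (hmemC x).mpr hx
  -- the index is at most 2
  have hsub : Nat.card ↥((Subgroup.zpowers (c * z * d)).subgroupOf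
      (Subgroup.centralizer ({c} : Set G))) = 66 := by
    rw [← hZ]
    exact Nat.card_congr (Subgroup.subgroupOfEquivOfLe hle).toEquiv
  have hidx := Subgroup.card_mul_index ((Subgroup.zpowers (c * z * d)).subgroupOf
      (Subgroup.centralizer ({c} : Set G)))
  rw [hsub] at hidx
  have hpos : 0 < ((Subgroup.zpowers (c * z * d)).subgroupOf
      (Subgroup.centralizer ({c} : Set G))).index := by
    rcases Nat.eq_zero_or_pos ((Subgroup.zpowers (c * z * d)).subgroupOf
      (Subgroup.centralizer ({c} : Set G))).index with h | h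
    · rw [h, mul_zero] at hidx
      have : 0 < Nat.card ↥(Subgroup.centralizer ({c} : Set G)) := Nat.card_pos
      omega
    · exact h
  have hidx2 : ((Subgroup.zpowers (c * z * d)).subgroupOf
      (Subgroup.centralizer ({c} : Set G))).index = 1 ∨
      ((Subgroup.zpowers (c * z * d)).subgroupOf
      (Subgroup.centralizer ({c} : Set G))).index = 2 := by omega
  -- `x` lies in the cyclic subgroup
  have hxZ : x ∈ Subgroup.zpowers (c * z * d) := by
    rcases hidx2 with h1 | h2
    · rw [Subgroup.index_eq_one] at h1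
      have : (⟨x, hxC⟩ : ↥(Subgroup.centralizer ({c} : Set G))) ∈
          (Subgroup.zpowers (c * z * d)).subgroupOf (Subgroup.centralizer ({c} : Set G)) := by
        rw [h1]; exact Subgroup.mem_top _
      exact Subgroup.mem_subgroupOf.mp this
    · have h3 := Subgroup.sq_mem_of_index_two h2
        (⟨x, hxC⟩ : ↥(Subgroup.centralizer ({c} : Set G)))
      have h4 : x ^ 2 ∈ Subgroup.zpowers (c * z * d) := Subgroup.mem_subgroupOf.mp h3
      have h5 : x = (x ^ 2) ^ 2 := by
        rw [← pow_mul]
        calc x = x ^ 3 * x := by rw [hx3, one_mul]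
          _ = x ^ (2 * 2) := by rw [← pow_succ]
      rw [h5]
      exact Subgroup.pow_mem _ h4 2
  -- the exponent
  rw [← mem_powers_iff_mem_zpowers] at hxZ
  obtain ⟨k, hk⟩ := hxZ
  replace hk : (c * z * d) ^ k = x := hk
  subst hk
  have h66 : 66 ∣ k * 3 := by
    rw [← hw]
    apply orderOf_dvd_of_pow_eq_one
    rw [pow_mul]
    exact hx3
  obtain ⟨m, rfl⟩ : 22 ∣ k := by omega
  have hw22 : (c * z * d) ^ 22 = d := by
    rw [(hcd.mul_left hzd).mul_pow, hcz.mul_pow]
    have h1 : c ^ 22 = 1 := by
      rw [show 22 = 11 * 2 from rfl, pow_mul, ← hc, pow_orderOf_eq_one, one_pow]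
    have h2 : z ^ 22 = 1 := by
      rw [show 22 = 2 * 11 from rfl, pow_mul, ← hz, pow_orderOf_eq_one, one_pow]
    have h3 : d ^ 22 = d := by
      rw [show 22 = 3 * 7 + 1 from rfl, pow_succ, pow_mul, hd3, one_pow, one_mul]
    rw [h1, h2, h3, one_mul, one_mul]
  rw [pow_mul, hw22, ← pow_mod_orderOf, hd]
  have hm3 : m % 3 < 3 := Nat.mod_lt _ (by norm_num)
  interval_cases (m % 3)
  · left; exact pow_zero d
  · right; left; exact pow_one d
  · right; right
    rw [eq_inv_iff_mul_eq_one, ← pow_succ]
    exact hd3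

/-! ### the centre -/

theorem co1o_negEl_comm (g : ↥Co0) : negEl * g = g * negEl := negPerm_central g

theorem co1o_mem_center (c : ↥Co0) : c ∈ Subgroup.center ↥Co0 ↔ c = 1 ∨ c = negEl := by
  constructor
  · intro hc
    have hz := Subgroup.mem_center_iff.mp hc
    rcases central_eq (z := (c : Equiv.Perm ↥leechLattice)) c.2 (by
      intro f hf
      have := hz ⟨f, hf⟩
      exact (congrArg (fun w : ↥Co0 => (w : Equiv.Perm ↥leechLattice)) this).symm) with h | h
    · left; exact Subtype.ext h
    · right; exact Subtype.ext h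
  · rintro (h | h)
    · rw [h]; exact Subgroup.one_mem _
    · rw [h, Subgroup.mem_center_iff]
      intro g
      exact (co1o_negEl_comm g).symm

theorem co1o_negEl_ne_one : negEl ≠ 1 := by
  intro h
  exact negPerm_ne_one (congrArg Subtype.val h)

theorem co1o_orderOf_negEl : orderOf negEl = 2 := by
  haveI : Fact (Nat.Prime 2) := ⟨by norm_num⟩
  exact orderOf_eq_prime (by rw [pow_two]; exact negEl_mul_self) co1o_negEl_ne_one

theorem co1o_proj0_eq_one (g : ↥Co0) : proj0 g = 1 ↔ g = 1 ∨ g = negEl := by
  rw [proj0_eq_one_iff, co1o_mem_center]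

/-- the elements of order 3 of the quotient by the centre centralizing the image of `co1o_chat`. -/
theorem co1o_hd (dhat : ↥Co0) (hd3 : dhat ^ 3 = 1) (hd1 : dhat ≠ 1)
    (hdc : dhat * co1o_chat = co1o_chat * dhat) :
    ∀ x : Spor.Co1, x * proj0 co1o_chat = proj0 co1o_chat * x → x ^ 3 = 1 → x ≠ 1 →
      x = proj0 dhat ∨ x = (proj0 dhat)⁻¹ := by
  haveI := co1o_finite_co0
  intro x hx hx3 hx1
  obtain ⟨y, rfl⟩ := QuotientGroup.mk'_surjective (Subgroup.center ↥Co0) x
  change proj0 y * proj0 co1o_chat = proj0 co1o_chat * proj0 y at hx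
  change proj0 y ^ 3 = 1 at hx3
  change proj0 y ≠ 1 at hx1
  change proj0 y = proj0 dhat ∨ proj0 y = (proj0 dhat)⁻¹
  -- `y` commutes with `co1o_chat`
  have hcomm : y * co1o_chat = co1o_chat * y := by
    have h1 : proj0 (y * co1o_chat * y⁻¹ * co1o_chat⁻¹) = 1 := by
      rw [map_mul, map_mul, map_mul, map_inv, map_inv, hx]
      group
    rcases (co1o_proj0_eq_one _).mp h1 with h | h
    · have h2 : y * co1o_chat * y⁻¹ = co1o_chat := by
        rw [mul_inv_eq_one] at h
        exact h
      calc y * co1o_chat = (y * co1o_chat * y⁻¹) * y := by group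
        _ = co1o_chat * y := by rw [h2]
    · exfalso
      have h2 : y * co1o_chat * y⁻¹ = negEl * co1o_chat := by
        rw [mul_inv_eq_iff_eq_mul] at h
        exact h
      have h3 : (y * co1o_chat * y⁻¹) ^ 11 = 1 := by
        rw [conj_pow, co1o_chat_pow, mul_one, mul_inv_cancel]
      rw [h2, (show Commute negEl co1o_chat from co1o_negEl_comm co1o_chat).mul_pow, co1o_chat_pow,
        mul_one] at h3
      have h4 : negEl ^ 11 = negEl := by
        rw [show 11 = 2 * 5 + 1 from rfl, pow_succ, pow_mul, pow_two, negEl_mul_self, one_pow,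
          one_mul]
      rw [h4] at h3
      exact co1o_negEl_ne_one h3
  -- a representative of order dividing 3
  have hy3 : y ^ 3 = 1 ∨ y ^ 3 = negEl := by
    rw [← co1o_proj0_eq_one, map_pow]
    exact hx3
  have key : ∀ y' : ↥Co0, y' * co1o_chat = co1o_chat * y' → y' ^ 3 = 1 → proj0 y' ≠ 1 →
      proj0 y' = proj0 dhat ∨ proj0 y' = (proj0 dhat)⁻¹ := by
    intro y' hc' h3' h1'
    have hcard : Nat.card ↥(Subgroup.centralizer ({co1o_chat} : Set ↥Co0)) ≤ 132 := co1o_card_C
    rcases co1o_order3_abs co1o_chat negEl dhat co1o_orderOf_chat co1o_orderOf_negEl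
      co1o_negEl_comm hd3 hd1 hdc hcard y' hc' h3' with h | h | h
    · exfalso
      apply h1'
      rw [h, map_one]
    · left; rw [h]
    · right; rw [h, map_inv]
  rcases hy3 with h3 | h3
  · exact key y hcomm h3 hx1
  · have e : proj0 (negEl * y) = proj0 y := by
      rw [map_mul, (co1o_proj0_eq_one negEl).mpr (Or.inr rfl), one_mul]
    rw [← e]
    apply key
    · rw [mul_assoc, hcomm, ← mul_assoc, ← mul_assoc, co1o_negEl_comm co1o_chat]
    · rw [(show Commute negEl y from co1o_negEl_comm y).mul_pow, h3]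
      have h4 : negEl ^ 3 = negEl := by
        rw [show 3 = 2 + 1 from rfl, pow_succ, pow_two, negEl_mul_self, one_mul]
      rw [h4, negEl_mul_self]
    · rw [e]
      exact hx1

end Cfsg.Agent.Co1O
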