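import Mathlib
import Cfsg.Agent.Co1O.Abs
import Cfsg.Agent.Co1O.Cent11C

set_option autoImplicit false
set_option linter.unusedVariables false

/-!
# S2069 (`Out(Co₁) = 1`): the pair `a`, `c` in the quotient by the centre, and the reduction of the
statement to the data on the third generator

* `co1o_sh : Equiv.Perm GolayPt` (`∞ ↦ ∞`, `x ↦ x + 1`), `co1o_ahat : ↥Co0` its coordinate
  permutation, `co1o_ahat_unique`; `co1o_orderOf_ahat = 23`, `co1o_rel_hat : ĉ * â * ĉ⁻¹ = â ^ 2`;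
* `co1o_card_co1`, `co1o_fact23`, `co1o_fact11`;
* `co1o_orderOf_a`, `co1o_orderOf_c`, `co1o_rel_ca` for `a = proj0 â`, `c = proj0 ĉ`;
* `co1o_out_of_data`: `Nat.card (Cfsg.Out Spor.Co1) = 1` from an element `d̂ : ↥Co0` of order 3
  commuting with `ĉ`, generation by `a, c, d` and three relators.
-/

namespace Cfsg.Agent.Co1O

open Cfsg Cfsg.Agent.Helper9.Golay Cfsg.Agent.Helper9.Leech Cfsg.Agent.Helper9.Leech.Mono
open Cfsg.Agent.Helper9.LeechAct

/-- the table of `x ↦ x + 1`. -/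
def co1o_shT : List ℕ := [1, 2, 3, 4, 5, 6, 7, 8, 9, 10, 11, 12, 13, 14, 15, 16, 17, 18, 19, 20, 21, 22, 0, 23]

/-- the table of `x ↦ x - 1`. -/
def co1o_shT' : List ℕ := [22, 0, 1, 2, 3, 4, 5, 6, 7, 8, 9, 10, 11, 12, 13, 14, 15, 16, 17, 18, 19, 20, 21, 23]

theorem co1o_shT_inv : tblInvChk co1o_shT co1o_shT' = true := by decide

/-- the permutation `x ↦ x + 1` of the projective line over the field with 23 elements. -/
def co1o_sh : Equiv.Perm GolayPt := permOfTbl co1o_shT co1o_shT' co1o_shT_inv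

theorem co1o_sh_mem : co1o_sh ∈ M24 := permOfTbl_mem co1o_shT co1o_shT' co1o_shT_inv (by decide +kernel)

theorem co1o_sh_none : co1o_sh none = none := by decide

theorem co1o_sh_some : ∀ x : ZMod 23, co1o_sh (some x) = some (x + 1) := by decide

theorem co1o_sh_pow_some (k : ℕ) (x : ZMod 23) : (co1o_sh ^ k) (some x) = some (x + k) := by
  induction k with
  | zero => simp
  | succ n ih =>
    rw [pow_succ', Equiv.Perm.mul_apply, ih, co1o_sh_some]
    congr 1
    push_cast
    ring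

theorem co1o_sh_pow_none (k : ℕ) : (co1o_sh ^ k) none = none := by
  induction k with
  | zero => rfl
  | succ n ih => rw [pow_succ', Equiv.Perm.mul_apply, ih, co1o_sh_none]

theorem co1o_sh_pow : co1o_sh ^ 23 = 1 := by
  apply Equiv.ext
  intro p
  cases p with
  | none => exact co1o_sh_pow_none 23
  | some x =>
    rw [co1o_sh_pow_some]
    have : ((23 : ℕ) : ZMod 23) = 0 := by decide
    rw [this, add_zero]
    rfl

theorem co1o_sh_rel : sig2 * co1o_sh * sig2⁻¹ = co1o_sh ^ 2 := by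
  rw [mul_inv_eq_iff_eq_mul]
  apply Equiv.ext
  intro p
  cases p with
  | none =>
    rw [Equiv.Perm.mul_apply, Equiv.Perm.mul_apply, co1o_sh_none, sig2_none, co1o_sh_pow_none]
  | some x =>
    rw [Equiv.Perm.mul_apply, Equiv.Perm.mul_apply, co1o_sh_some, sig2_some, sig2_some,
      co1o_sh_pow_some]
    congr 1
    push_cast
    ring

/-- the coordinate permutation `x ↦ x + 1`, as an automorphism of the lattice. -/
def co1o_ahat : ↥Co0 := monoEl co1o_sh co1o_sh_mem ∅ Spor.empty_mem_supports_golayCode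

theorem co1o_ahat_eq : co1o_ahat = permSec ⟨co1o_sh, co1o_sh_mem⟩ := rfl

theorem co1o_chat_eq : co1o_chat = permSec ⟨sig2, sig2_mem⟩ := rfl

theorem co1o_ahat_smul_e8 (i : GolayPt) : co1o_ahat • e8 i = e8 (co1o_sh i) := by
  rcases monoEl_smul_e8 co1o_sh co1o_sh_mem ∅ Spor.empty_mem_supports_golayCode i with h | h
  · exact h
  · exfalso
    have h1 : ((co1o_ahat • e8 i : ↥leechLattice) : GolayPt → ℤ) (co1o_sh i) = 8 := by
      change signedPerm co1o_sh ∅ ((e8 i : ↥leechLattice) : GolayPt → ℤ) (co1o_sh i) = 8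
      unfold signedPerm
      rw [if_neg (Finset.notMem_empty _), Equiv.symm_apply_apply, e8_apply, if_pos rfl]
    have h2 : co1o_ahat • e8 i = -e8 (co1o_sh i) := h
    rw [h2, AddSubgroup.coe_neg, Pi.neg_apply, e8_apply, if_pos rfl] at h1
    omega

/-- `co1o_ahat` is the automorphism of the lattice mapping `e8 i` to `e8 (co1o_sh i)`. -/
theorem co1o_ahat_unique {g : ↥Co0} (h : ∀ i, g • e8 i = e8 (co1o_sh i)) : g = co1o_ahat :=
  co1o_ext_e8 (fun i => by rw [h i, co1o_ahat_smul_e8])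

theorem co1o_ahat_pow : co1o_ahat ^ 23 = 1 := by
  rw [co1o_ahat_eq, ← map_pow]
  have : (⟨co1o_sh, co1o_sh_mem⟩ : ↥M24) ^ 23 = 1 := Subtype.ext co1o_sh_pow
  rw [this, map_one]

theorem co1o_ahat_ne_one : co1o_ahat ≠ 1 := by
  intro h
  have h1 := co1o_ahat_smul_e8 (some 0)
  rw [h, one_smul] at h1
  have h2 := e8_inj (Or.inl h1)
  exact absurd h2 (by decide)

theorem co1o_orderOf_ahat : orderOf co1o_ahat = 23 := by
  haveI : Fact (Nat.Prime 23) := ⟨by norm_num⟩
  exact orderOf_eq_prime co1o_ahat_pow co1o_ahat_ne_one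

theorem co1o_rel_hat : co1o_chat * co1o_ahat * co1o_chat⁻¹ = co1o_ahat ^ 2 := by
  rw [co1o_ahat_eq, co1o_chat_eq, ← map_inv, ← map_mul, ← map_mul, ← map_pow]
  congr 1
  exact Subtype.ext co1o_sh_rel

/-! ### the order of the quotient by the centre -/

theorem co1o_finite_co1 : Finite Spor.Co1 := by
  haveI := co1o_finite_co0
  exact Finite.of_surjective proj0 (QuotientGroup.mk'_surjective _)

theorem co1o_card_co1 : Nat.card Spor.Co1 = 4157776806543360000 := by
  have h1 := Subgroup.card_eq_card_quotient_mul_card_subgroup (Subgroup.center ↥Co0)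
  rw [card_co0, card_center'] at h1
  change 8315553613086720000 = Nat.card Spor.Co1 * 2 at h1
  omega

theorem co1o_fact_aux (p m : ℕ) (hp : p.Prime) (hm : ¬ p ∣ m) (hm0 : m ≠ 0) :
    (p * m).factorization p = 1 := by
  rw [Nat.factorization_mul hp.ne_zero hm0, Finsupp.add_apply, hp.factorization_self,
    Nat.factorization_eq_zero_of_not_dvd hm]

theorem co1o_fact23 : (Nat.card Spor.Co1).factorization 23 = 1 := by
  rw [co1o_card_co1, show 4157776806543360000 = 23 * 180772904632320000 from by norm_num]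
  exact co1o_fact_aux 23 _ (by norm_num) (by norm_num) (by norm_num)

theorem co1o_fact11 : (Nat.card Spor.Co1).factorization 11 = 1 := by
  rw [co1o_card_co1, show 4157776806543360000 = 11 * 377979709685760000 from by norm_num]
  exact co1o_fact_aux 11 _ (by norm_num) (by norm_num) (by norm_num)

/-! ### the images in the quotient -/

/-- an element of odd order is not `negEl`. -/
theorem co1o_ne_negEl {g : ↥Co0} {n : ℕ} (hn : Odd n) (hg : g ^ n = 1) : g ≠ negEl := by
  rintro rfl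
  obtain ⟨k, rfl⟩ := hn
  rw [pow_succ, pow_mul, pow_two, negEl_mul_self, one_pow, one_mul] at hg
  exact co1o_negEl_ne_one hg

theorem co1o_proj_ne_one {g : ↥Co0} {n : ℕ} (hn : Odd n) (hg : g ^ n = 1) (h1 : g ≠ 1) :
    proj0 g ≠ 1 := by
  intro h
  rcases (co1o_proj0_eq_one g).mp h with h2 | h2
  · exact h1 h2
  · exact co1o_ne_negEl hn hg h2

theorem co1o_orderOf_a : orderOf (proj0 co1o_ahat) = 23 := by
  haveI : Fact (Nat.Prime 23) := ⟨by norm_num⟩
  refine orderOf_eq_prime ?_ (co1o_proj_ne_one (n := 23) (by decide) co1o_ahat_pow co1o_ahat_ne_one)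
  rw [← map_pow, co1o_ahat_pow, map_one]

theorem co1o_orderOf_c : orderOf (proj0 co1o_chat) = 11 := by
  haveI : Fact (Nat.Prime 11) := ⟨by norm_num⟩
  refine orderOf_eq_prime ?_ (co1o_proj_ne_one (n := 11) (by decide) co1o_chat_pow co1o_chat_ne_one)
  rw [← map_pow, co1o_chat_pow, map_one]

theorem co1o_rel_ca :
    proj0 co1o_chat * proj0 co1o_ahat * (proj0 co1o_chat)⁻¹ = proj0 co1o_ahat ^ 2 := by
  rw [← map_inv, ← map_mul, ← map_mul, ← map_pow, co1o_rel_hat]

/-- the statement, from the data on the third generator. -/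
theorem co1o_out_of_data (dhat : ↥Co0) (hd3 : dhat ^ 3 = 1) (hd1 : dhat ≠ 1)
    (hdc : dhat * co1o_chat = co1o_chat * dhat)
    (hgen : Subgroup.closure
      ({proj0 co1o_ahat, proj0 co1o_chat, proj0 dhat} : Set Spor.Co1) = ⊤)
    (hw1 : ∃ w : FreeGroup (Fin 3),
      FreeGroup.lift ![proj0 co1o_ahat, proj0 co1o_chat, proj0 dhat] w = 1 ∧
      FreeGroup.lift ![proj0 co1o_ahat, proj0 co1o_chat, (proj0 dhat)⁻¹] w ≠ 1)
    (hw2 : ∃ w : FreeGroup (Fin 3),
      FreeGroup.lift ![proj0 co1o_ahat, proj0 co1o_chat, proj0 dhat] w = 1 ∧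
      FreeGroup.lift ![(proj0 co1o_ahat)⁻¹, proj0 co1o_chat, proj0 dhat] w ≠ 1)
    (hw3 : ∃ w : FreeGroup (Fin 3),
      FreeGroup.lift ![proj0 co1o_ahat, proj0 co1o_chat, proj0 dhat] w = 1 ∧
      FreeGroup.lift ![(proj0 co1o_ahat)⁻¹, proj0 co1o_chat, (proj0 dhat)⁻¹] w ≠ 1) :
    Nat.card (Cfsg.Out Spor.Co1) = 1 := by
  haveI := co1o_finite_co1
  refine co1o_abs_out_one_23 (proj0 co1o_ahat) (proj0 co1o_chat) (proj0 dhat) co1o_fact23
    co1o_fact11 co1o_orderOf_a co1o_orderOf_c co1o_rel_ca ?_ ?_ ?_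
    (co1o_hd dhat hd3 hd1 hdc) hgen hw1 hw2 hw3
  · rw [← map_mul, ← map_mul, hdc]
  · rw [← map_pow, hd3, map_one]
  · exact co1o_proj_ne_one (n := 3) (by decide) hd3 hd1

end Cfsg.Agent.Co1O
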