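import Mathlib
import Cfsg.Agent.Co1O.Cent11D
import Cfsg.Agent.Helper3.Co1ODat

set_option autoImplicit false
set_option linter.unusedVariables false
set_option maxRecDepth 100000

/-!
# S2069 (`Out(Co₁) = 1`): the bridge to the letter words of `Helper3/Co1ODat.lean`

* `co1o_word_ext`: two words of letters agreeing on the 24 lists `e8L k` give the same automorphism;
* `co1o_cEl_eq : cEl = co1o_chat`, `co1o_aEl_eq : aEl = co1o_ahat`;
* `co1o_dEl_pow : dEl ^ 3 = 1`, `co1o_dEl_ne_one`, `co1o_dEl_comm : dEl * cEl = cEl * dEl`;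
* `co1o_cent_ord3`: the elements of order dividing 3 of `Co₁` commuting with `proj0 cEl` are the
  powers of `proj0 dEl`;
* `co1o_out_of_words`: `Nat.card (Cfsg.Out Spor.Co1) = 1` from generation by the images of
  `aEl, cEl, dEl` and three relators.
-/

namespace Cfsg.Agent.Co1O

open Cfsg Cfsg.Agent.Helper9.Golay Cfsg.Agent.Helper9.Leech Cfsg.Agent.Helper9.Leech.Mono
open Cfsg.Agent.Helper9.LeechAct Cfsg.Agent.Helper3.Co1O

/-- the automorphism of a word, as an element of the group. -/
def co1o_wEl (w : List LLet) : ↥Co0 := ⟨wordEl w, wordEl_mem w⟩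

theorem co1o_wEl_append (w1 w2 : List LLet) :
    co1o_wEl (w1 ++ w2) = co1o_wEl w1 * co1o_wEl w2 := by
  apply Subtype.ext
  change wordEl (w1 ++ w2) = wordEl w1 * wordEl w2
  unfold wordEl
  rw [List.map_append, List.prod_append]

theorem co1o_wEl_nil : co1o_wEl [] = 1 := rfl

/-- the check that two words agree on the 24 lists `e8L k`. -/
def co1o_wordChk (w1 w2 : List LLet) : Bool :=
  (List.range 24).all (fun k => wordL w1 (e8L k) == wordL w2 (e8L k))

theorem co1o_word_smul {w : List LLet} (hw : w.all letOK = true) (i : GolayPt) :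
    ((co1o_wEl w • e8 i : ↥leechLattice) : GolayPt → ℤ) = toVec (wordL w (e8L (ptIdx i))) :=
  wordEl_apply (fun l hl => (List.all_eq_true.mp hw) l hl) (e8_coe' i)

/-- two words of letters agreeing on the 24 lists `e8L k` give the same automorphism. -/
theorem co1o_word_ext {w1 w2 : List LLet} (h1 : w1.all letOK = true) (h2 : w2.all letOK = true)
    (h : co1o_wordChk w1 w2 = true) : co1o_wEl w1 = co1o_wEl w2 := by
  apply co1o_ext_e8
  intro i
  apply Subtype.ext
  rw [co1o_word_smul h1, co1o_word_smul h2]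
  unfold co1o_wordChk at h
  rw [List.all_eq_true] at h
  have := h (ptIdx i) (List.mem_range.mpr (ptIdx_lt i))
  rw [beq_iff_eq] at this
  rw [this]

theorem co1o_all_append {w1 w2 : List LLet} (h1 : w1.all letOK = true) (h2 : w2.all letOK = true) :
    (w1 ++ w2).all letOK = true := by
  rw [List.all_append, h1, h2]
  rfl

theorem co1o_aLet_ok : [aLet].all letOK = true := by decide +kernel

theorem co1o_cLet_ok : [cLet].all letOK = true := by decide +kernel

theorem co1o_dWord_ok : dWord.all letOK = true := by decide +kernel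

theorem co1o_aEl_def : aEl = co1o_wEl [aLet] := rfl

theorem co1o_cEl_def : cEl = co1o_wEl [cLet] := rfl

theorem co1o_dEl_def : dEl = co1o_wEl dWord := rfl

theorem co1o_cLet_img : ∀ i : GolayPt, wordL [cLet] (e8L (ptIdx i)) = e8L (ptIdx (sig2 i)) := by
  decide +kernel

theorem co1o_aLet_img : ∀ i : GolayPt, wordL [aLet] (e8L (ptIdx i)) = e8L (ptIdx (co1o_sh i)) := by
  decide +kernel

theorem co1o_cEl_eq : cEl = co1o_chat := by
  apply co1o_chat_unique
  intro i
  apply Subtype.ext
  rw [co1o_cEl_def, co1o_word_smul co1o_cLet_ok, co1o_cLet_img, e8_coe']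

theorem co1o_aEl_eq : aEl = co1o_ahat := by
  apply co1o_ahat_unique
  intro i
  apply Subtype.ext
  rw [co1o_aEl_def, co1o_word_smul co1o_aLet_ok, co1o_aLet_img, e8_coe']

theorem co1o_dEl_pow_chk : co1o_wordChk (dWord ++ (dWord ++ dWord)) [] = true := by decide +kernel

theorem co1o_dEl_pow : dEl ^ 3 = 1 := by
  rw [co1o_dEl_def, pow_succ, pow_two, mul_assoc, ← co1o_wEl_append, ← co1o_wEl_append,
    ← co1o_wEl_nil]
  exact co1o_word_ext (co1o_all_append co1o_dWord_ok (co1o_all_append co1o_dWord_ok co1o_dWord_ok))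
    rfl co1o_dEl_pow_chk

theorem co1o_dEl_img : wordL dWord (e8L 23) ≠ e8L 23 := by decide +kernel

theorem co1o_dEl_ne_one : dEl ≠ 1 := by
  intro h
  have h1 := co1o_word_smul co1o_dWord_ok none
  rw [← co1o_dEl_def, h, one_smul, e8_coe'] at h1
  apply co1o_dEl_img
  have h2 : ptIdx none = 23 := rfl
  rw [h2] at h1
  -- the two lists have length 24 and the same coordinates
  have hlen : (wordL dWord (e8L 23)).length = 24 := by decide +kernel
  have hlen' : (e8L 23).length = 24 := by decide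
  apply List.ext_getElem (by rw [hlen, hlen'])
  intro k hk1 hk2
  have hk : k < 24 := by rw [hlen] at hk1; exact hk1
  have h3 := congrFun h1 (mkPt k)
  unfold toVec at h3
  rw [ptIdx_mkPt k hk, List.getD_eq_getElem _ _ hk2, List.getD_eq_getElem _ _ hk1] at h3
  exact h3.symm

theorem co1o_dEl_comm_chk : co1o_wordChk (dWord ++ [cLet]) ([cLet] ++ dWord) = true := by
  decide +kernel

theorem co1o_dEl_comm : dEl * cEl = cEl * dEl := by
  rw [co1o_dEl_def, co1o_cEl_def, ← co1o_wEl_append, ← co1o_wEl_append]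
  exact co1o_word_ext (co1o_all_append co1o_dWord_ok co1o_cLet_ok)
    (co1o_all_append co1o_cLet_ok co1o_dWord_ok) co1o_dEl_comm_chk

/-- the elements of order dividing 3 of the quotient by the centre commuting with the image of
`cEl` are the powers of the image of `dEl`. -/
theorem co1o_cent_ord3 (x : Spor.Co1) (hx : x * proj0 cEl = proj0 cEl * x) (h3 : x ^ 3 = 1) :
    x = 1 ∨ x = proj0 dEl ∨ x = proj0 dEl ^ 2 := by
  by_cases h1 : x = 1
  · exact Or.inl h1
  · right
    rw [co1o_cEl_eq] at hx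
    have hdc : dEl * co1o_chat = co1o_chat * dEl := by
      rw [← co1o_cEl_eq]; exact co1o_dEl_comm
    rcases co1o_hd dEl co1o_dEl_pow co1o_dEl_ne_one hdc x hx h3 h1 with h | h
    · exact Or.inl h
    · right
      rw [h, inv_eq_iff_mul_eq_one, ← pow_succ', ← map_pow, co1o_dEl_pow, map_one]

/-- the statement, from generation and three relators. -/
theorem co1o_out_of_words
    (hgen : Subgroup.closure ({proj0 aEl, proj0 cEl, proj0 dEl} : Set Spor.Co1) = ⊤)
    (hw1 : ∃ w : FreeGroup (Fin 3),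
      FreeGroup.lift ![proj0 aEl, proj0 cEl, proj0 dEl] w = 1 ∧
      FreeGroup.lift ![proj0 aEl, proj0 cEl, (proj0 dEl)⁻¹] w ≠ 1)
    (hw2 : ∃ w : FreeGroup (Fin 3),
      FreeGroup.lift ![proj0 aEl, proj0 cEl, proj0 dEl] w = 1 ∧
      FreeGroup.lift ![(proj0 aEl)⁻¹, proj0 cEl, proj0 dEl] w ≠ 1)
    (hw3 : ∃ w : FreeGroup (Fin 3),
      FreeGroup.lift ![proj0 aEl, proj0 cEl, proj0 dEl] w = 1 ∧
      FreeGroup.lift ![(proj0 aEl)⁻¹, proj0 cEl, (proj0 dEl)⁻¹] w ≠ 1) :
    Nat.card (Cfsg.Out Spor.Co1) = 1 := by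
  rw [co1o_aEl_eq, co1o_cEl_eq] at hgen hw1 hw2 hw3
  have hdc : dEl * co1o_chat = co1o_chat * dEl := by
    rw [← co1o_cEl_eq]; exact co1o_dEl_comm
  exact co1o_out_of_data dEl co1o_dEl_pow co1o_dEl_ne_one hdc hgen hw1 hw2 hw3

end Cfsg.Agent.Co1O
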