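import Mathlib
import Cfsg.Agent.Co1O.Cent11E

/-!
# S2069 (`Out(Co₁) = 1`): lists of words of letters, entries defined by words in earlier entries

A list of words in the letters of `Cfsg.Agent.Helper9.LeechAct`, in pairs of an automorphism and
its inverse; the first three pairs are the generators, and every further pair comes with a word in
earlier entries whose product is the first entry of the pair (checked on the 24 vectors with one
coordinate 8 by `co1o_wordChk`).  All entries then lie in the subgroup of the quotient by the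
centre generated by the images of the three generators.  A word in the entries is trivial in the
quotient as soon as its word of letters acts trivially on the 24 vectors, and it is not trivial as
soon as it moves one of them off its line.  Words in the six first entries are the values of words
of the free group on three letters.
-/

set_option autoImplicit false

namespace Cfsg.Agent.Co1O

open Cfsg Cfsg.Agent.Helper9.Golay Cfsg.Agent.Helper9.Leech Cfsg.Agent.Helper9.Leech.Mono
open Cfsg.Agent.Helper9.LeechAct

/-- the word of letters of an entry of the list. -/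
def co1o_lw (L : List (List LLet)) (c : ℕ) : List LLet := L.getD c []

/-- the word of letters of a word in the entries. -/
def co1o_flat (L : List (List LLet)) (r : List ℕ) : List LLet := (r.map (co1o_lw L)).flatten

/-- the letters of the list are valid. -/
def co1o_LOK (L : List (List LLet)) : Prop := L.all (fun w => w.all letOK) = true

theorem co1o_lw_ok {L : List (List LLet)} (h : co1o_LOK L) (c : ℕ) :
    (co1o_lw L c).all letOK = true := by
  unfold co1o_LOK at h
  rw [List.all_eq_true] at h
  by_cases hc : c < L.length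
  · apply h
    unfold co1o_lw
    rw [List.getD_eq_getElem _ _ hc]
    exact List.getElem_mem hc
  · unfold co1o_lw
    rw [List.getD_eq_default _ _ (by omega)]
    rfl

theorem co1o_flat_ok {L : List (List LLet)} (h : co1o_LOK L) (r : List ℕ) :
    (co1o_flat L r).all letOK = true := by
  unfold co1o_flat
  induction r with
  | nil => rfl
  | cons c r ih =>
    rw [List.map_cons, List.flatten_cons]
    exact co1o_all_append (co1o_lw_ok h c) ih

/-- the automorphism of an entry. -/
def co1o_gC (L : List (List LLet)) (c : ℕ) : ↥Co0 := co1o_wEl (co1o_lw L c)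

/-- the image of an entry in the quotient by the centre. -/
def co1o_gQ (L : List (List LLet)) (c : ℕ) : Spor.Co1 := proj0 (co1o_gC L c)

theorem co1o_wEl_flat (L : List (List LLet)) (r : List ℕ) :
    co1o_wEl (co1o_flat L r) = (r.map (co1o_gC L)).prod := by
  unfold co1o_flat
  induction r with
  | nil => rfl
  | cons c r ih =>
    rw [List.map_cons, List.flatten_cons, co1o_wEl_append, ih, List.map_cons, List.prod_cons]
    rfl

theorem co1o_proj_flat (L : List (List LLet)) (r : List ℕ) :
    proj0 (co1o_wEl (co1o_flat L r)) = (r.map (co1o_gQ L)).prod := by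
  rw [co1o_wEl_flat, map_list_prod, List.map_map]
  rfl

/-- the subgroup generated by the images of the three generators. -/
def co1o_genM (L : List (List LLet)) : Subgroup Spor.Co1 :=
  Subgroup.closure {co1o_gQ L 0, co1o_gQ L 2, co1o_gQ L 4}

/-- the check of a pair of entries `k, k + 1` with the word `r` of the first. -/
def co1o_pairChk (L : List (List LLet)) (k : ℕ) (r : List ℕ) : Bool :=
  r.all (fun c => decide (c < k)) && co1o_wordChk (co1o_flat L r) (co1o_lw L k) &&
    co1o_wordChk (co1o_lw L k ++ co1o_lw L (k + 1)) []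

theorem co1o_inv_of_chk {L : List (List LLet)} (h : co1o_LOK L) {k : ℕ}
    (hc : co1o_wordChk (co1o_lw L k ++ co1o_lw L (k + 1)) [] = true) :
    co1o_gQ L (k + 1) = (co1o_gQ L k)⁻¹ := by
  have e := co1o_word_ext (co1o_all_append (co1o_lw_ok h k) (co1o_lw_ok h (k + 1))) rfl hc
  rw [co1o_wEl_append, co1o_wEl_nil] at e
  have e2 : co1o_gQ L k * co1o_gQ L (k + 1) = 1 := by
    unfold co1o_gQ co1o_gC
    rw [← map_mul, e, map_one]
  exact eq_inv_of_mul_eq_one_right e2

theorem co1o_prod_mem {L : List (List LLet)} {r : List ℕ}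
    (h : ∀ c ∈ r, co1o_gQ L c ∈ co1o_genM L) : (r.map (co1o_gQ L)).prod ∈ co1o_genM L := by
  apply Subgroup.list_prod_mem
  intro x hx
  obtain ⟨c, hc, rfl⟩ := List.mem_map.mp hx
  exact h c hc

theorem co1o_pair_mem {L : List (List LLet)} (h : co1o_LOK L) {k : ℕ} {r : List ℕ}
    (hp : co1o_pairChk L k r = true) (hm : ∀ c, c < k → co1o_gQ L c ∈ co1o_genM L) :
    co1o_gQ L k ∈ co1o_genM L ∧ co1o_gQ L (k + 1) ∈ co1o_genM L := by
  unfold co1o_pairChk at hp
  rw [Bool.and_eq_true, Bool.and_eq_true, List.all_eq_true] at hp
  obtain ⟨⟨hlt, hrel⟩, hinv⟩ := hp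
  have e := co1o_word_ext (co1o_flat_ok h r) (co1o_lw_ok h k) hrel
  have e1 : co1o_gQ L k = (r.map (co1o_gQ L)).prod := by
    rw [← co1o_proj_flat, e]
    rfl
  have hk : co1o_gQ L k ∈ co1o_genM L := by
    rw [e1]
    apply co1o_prod_mem
    intro c hc
    have := hlt c hc
    rw [decide_eq_true_eq] at this
    exact hm c this
  refine ⟨hk, ?_⟩
  rw [co1o_inv_of_chk h hinv]
  exact (co1o_genM L).inv_mem hk

/-- all entries lie in the subgroup generated by the three generators. -/
theorem co1o_mem_of_pairs {L : List (List LLet)} (h : co1o_LOK L) (n : ℕ) (D : ℕ → List ℕ)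
    (hD : ∀ j, j < n → co1o_pairChk L (6 + 2 * j) (D j) = true)
    (h01 : co1o_wordChk (co1o_lw L 0 ++ co1o_lw L (0 + 1)) [] = true)
    (h23 : co1o_wordChk (co1o_lw L 2 ++ co1o_lw L (2 + 1)) [] = true)
    (h45 : co1o_wordChk (co1o_lw L 4 ++ co1o_lw L (4 + 1)) [] = true) :
    ∀ c, c < 6 + 2 * n → co1o_gQ L c ∈ co1o_genM L := by
  have hg0 : co1o_gQ L 0 ∈ co1o_genM L := Subgroup.subset_closure (by simp)
  have hg2 : co1o_gQ L 2 ∈ co1o_genM L := Subgroup.subset_closure (by simp)
  have hg4 : co1o_gQ L 4 ∈ co1o_genM L := Subgroup.subset_closure (by simp)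
  have hbase : ∀ c, c < 6 → co1o_gQ L c ∈ co1o_genM L := by
    intro c hc
    interval_cases c
    · exact hg0
    · rw [co1o_inv_of_chk h h01]; exact (co1o_genM L).inv_mem hg0
    · exact hg2
    · rw [co1o_inv_of_chk h h23]; exact (co1o_genM L).inv_mem hg2
    · exact hg4
    · rw [co1o_inv_of_chk h h45]; exact (co1o_genM L).inv_mem hg4
  have key : ∀ m, m ≤ n → ∀ c, c < 6 + 2 * m → co1o_gQ L c ∈ co1o_genM L := by
    intro m
    induction m with
    | zero => intro _ c hc; exact hbase c (by omega)
    | succ m ih =>
      intro hm c hc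
      have ih' := ih (by omega)
      by_cases hc' : c < 6 + 2 * m
      · exact ih' c hc'
      · have hp := hD m (by omega)
        obtain ⟨m1, m2⟩ := co1o_pair_mem h hp ih'
        have : c = 6 + 2 * m ∨ c = 6 + 2 * m + 1 := by omega
        rcases this with rfl | rfl
        · exact m1
        · exact m2
  exact key n le_rfl

/-- a word in the entries whose word of letters acts trivially is trivial in the quotient. -/
theorem co1o_rel_one {L : List (List LLet)} (h : co1o_LOK L) {r : List ℕ}
    (hc : co1o_wordChk (co1o_flat L r) [] = true) : (r.map (co1o_gQ L)).prod = 1 := by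
  rw [← co1o_proj_flat, co1o_word_ext (co1o_flat_ok h r) rfl hc, co1o_wEl_nil, map_one]

/-- the word of letters moves the vector whose coordinate `k` is 8 to a vector which is neither
this one nor its opposite. -/
def co1o_moveChk (w : List LLet) (k : ℕ) : Bool :=
  ((wordL w (e8L k)).length == 24) && !(wordL w (e8L k) == e8L k) &&
    !(wordL w (e8L k) == (e8L k).map (fun x => -x))

theorem co1o_e8L_length (k : ℕ) : (e8L k).length = 24 := by
  unfold e8L
  rw [List.length_map, List.length_range]

/-- a word in the entries whose word of letters moves a vector with one coordinate 8 off its line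
is not trivial in the quotient. -/
theorem co1o_ne_one_of_move {L : List (List LLet)} (h : co1o_LOK L) {r : List ℕ} {k : ℕ}
    (hk : k < 24) (hm : co1o_moveChk (co1o_flat L r) k = true) :
    (r.map (co1o_gQ L)).prod ≠ 1 := by
  unfold co1o_moveChk at hm
  rw [Bool.and_eq_true, Bool.and_eq_true, beq_iff_eq, Bool.not_eq_true', Bool.not_eq_true',
    beq_eq_false_iff_ne, beq_eq_false_iff_ne] at hm
  obtain ⟨⟨hlen, hne1⟩, hne2⟩ := hm
  have hs := co1o_word_smul (co1o_flat_ok h r) (mkPt k)
  rw [ptIdx_mkPt k hk] at hs
  intro h1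
  rw [← co1o_proj_flat, co1o_proj0_eq_one] at h1
  rcases h1 with h1 | h1
  · apply hne1
    apply toVec_inj hlen (co1o_e8L_length k)
    rw [← hs, h1, one_smul, e8_coe' (mkPt k), ptIdx_mkPt k hk]
  · apply hne2
    apply toVec_inj hlen (by rw [List.length_map]; exact co1o_e8L_length k)
    rw [← hs, h1, negEl_smul]
    funext q
    rw [AddSubgroup.coe_neg, Pi.neg_apply, e8_coe' (mkPt k), ptIdx_mkPt k hk]
    unfold toVec
    by_cases hq : ptIdx q < (e8L k).length
    · rw [List.getD_eq_getElem _ _ hq, List.getD_eq_getElem _ _ (by rw [List.length_map]; exact hq),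
        List.getElem_map]
    · rw [List.getD_eq_default _ _ (by omega),
        List.getD_eq_default _ _ (by rw [List.length_map]; omega), neg_zero]

/-! ### strict evaluation -/

noncomputable section

/-- application to a natural number, evaluated first. -/
def co1o_sapp {α : Type} (f : ℕ → α) (x : ℕ) : α := Nat.rec (f 0) (fun k _ => f (Nat.succ k)) x

theorem co1o_sapp_eq {α : Type} (f : ℕ → α) (x : ℕ) : co1o_sapp f x = f x := by
  cases x <;> rfl

/-- application to an integer, evaluated first. -/
def co1o_sappI {α : Type} (f : ℤ → α) (x : ℤ) : α :=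
  Int.rec (fun n => co1o_sapp (fun m => f (Int.ofNat m)) n)
    (fun n => co1o_sapp (fun m => f (Int.negSucc m)) n) x

theorem co1o_sappI_eq {α : Type} (f : ℤ → α) (x : ℤ) : co1o_sappI f x = f x := by
  cases x with
  | ofNat n => exact co1o_sapp_eq (fun m => f (Int.ofNat m)) n
  | negSucc n => exact co1o_sapp_eq (fun m => f (Int.negSucc m)) n

/-- application to a list of integers, evaluated first. -/
def co1o_sappL {α : Type} : List ℤ → (List ℤ → α) → α
  | [], k => k []
  | x :: xs, k => co1o_sappI (fun x' => co1o_sappL xs (fun xs' => k (x' :: xs'))) x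

theorem co1o_sappL_eq {α : Type} (xs : List ℤ) : ∀ k : List ℤ → α, co1o_sappL xs k = k xs := by
  induction xs with
  | nil => intro k; rfl
  | cons x xs ih =>
    intro k
    unfold co1o_sappL
    rw [co1o_sappI_eq, ih]

/-- the image of a list of coordinates under a word of letters, each intermediate image evaluated
before the next letter is applied. -/
def co1o_wordLS : List LLet → List ℤ → List ℤ
  | [], v => v
  | l :: w, v => co1o_sappL (co1o_wordLS w v) (fun u => letL l u)

theorem co1o_wordLS_eq (w : List LLet) (v : List ℤ) : co1o_wordLS w v = wordL w v := by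
  induction w with
  | nil => rfl
  | cons l w ih =>
    unfold co1o_wordLS
    rw [co1o_sappL_eq, ih]
    rfl

/-- the check that two words of letters agree on the vectors of a list of indices, with strict
evaluation. -/
def co1o_wordChkS (w1 w2 : List LLet) (ks : List ℕ) : Bool :=
  ks.all (fun k => co1o_wordLS w1 (e8L k) == co1o_wordLS w2 (e8L k))

theorem co1o_eq_of_chkS {w1 w2 : List LLet} {ks : List ℕ} (h : co1o_wordChkS w1 w2 ks = true) :
    ∀ k ∈ ks, wordL w1 (e8L k) = wordL w2 (e8L k) := by
  unfold co1o_wordChkS at h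
  rw [List.all_eq_true] at h
  intro k hk
  have h1 := h k hk
  rw [beq_iff_eq, co1o_wordLS_eq, co1o_wordLS_eq] at h1
  exact h1

theorem co1o_wordChk_of_S {w1 w2 : List LLet} (h : co1o_wordChkS w1 w2 (List.range 24) = true) :
    co1o_wordChk w1 w2 = true := by
  unfold co1o_wordChk
  rw [List.all_eq_true]
  intro k hk
  rw [beq_iff_eq]
  exact co1o_eq_of_chkS h k hk

/-- the two words agree on the 24 vectors, by four blocks of six. -/
theorem co1o_wordChk_of_blocks {w1 w2 : List LLet}
    (h0 : co1o_wordChkS w1 w2 (List.range' 0 6) = true)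
    (h1 : co1o_wordChkS w1 w2 (List.range' 6 6) = true)
    (h2 : co1o_wordChkS w1 w2 (List.range' 12 6) = true)
    (h3 : co1o_wordChkS w1 w2 (List.range' 18 6) = true) :
    co1o_wordChk w1 w2 = true := by
  unfold co1o_wordChk
  rw [List.all_eq_true]
  intro k hk
  rw [List.mem_range] at hk
  rw [beq_iff_eq]
  rcases Nat.lt_or_ge k 6 with h | h
  · exact co1o_eq_of_chkS h0 k (by rw [List.mem_range'_1]; omega)
  · rcases Nat.lt_or_ge k 12 with h' | h'
    · exact co1o_eq_of_chkS h1 k (by rw [List.mem_range'_1]; omega)
    · rcases Nat.lt_or_ge k 18 with h'' | h''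
      · exact co1o_eq_of_chkS h2 k (by rw [List.mem_range'_1]; omega)
      · exact co1o_eq_of_chkS h3 k (by rw [List.mem_range'_1]; omega)

/-- the check of a pair of entries `k, k + 1` with the word `r` of the first, with strict
evaluation. -/
def co1o_pairChkS (L : List (List LLet)) (k : ℕ) (r : List ℕ) : Bool :=
  r.all (fun c => decide (c < k)) &&
    co1o_wordChkS (co1o_flat L r) (co1o_lw L k) (List.range 24) &&
    co1o_wordChkS (co1o_lw L k ++ co1o_lw L (k + 1)) [] (List.range 24)

theorem co1o_pairChk_of_S {L : List (List LLet)} {k : ℕ} {r : List ℕ}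
    (h : co1o_pairChkS L k r = true) : co1o_pairChk L k r = true := by
  unfold co1o_pairChkS at h
  unfold co1o_pairChk
  rw [Bool.and_eq_true, Bool.and_eq_true] at h ⊢
  exact ⟨⟨h.1.1, co1o_wordChk_of_S h.1.2⟩, co1o_wordChk_of_S h.2⟩

/-- the check that a word of letters moves the vector whose coordinate `k` is 8 off its line, with
strict evaluation. -/
def co1o_moveChkS (w : List LLet) (k : ℕ) : Bool :=
  ((co1o_wordLS w (e8L k)).length == 24) && !(co1o_wordLS w (e8L k) == e8L k) &&
    !(co1o_wordLS w (e8L k) == (e8L k).map (fun x => -x))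

theorem co1o_moveChk_of_S {w : List LLet} {k : ℕ} (h : co1o_moveChkS w k = true) :
    co1o_moveChk w k = true := by
  unfold co1o_moveChkS at h
  rw [co1o_wordLS_eq] at h
  exact h

end

/-! ### words of the free group -/

/-- the letter of the free group of one of the six first entries. -/
def co1o_fgLet (c : ℕ) : FreeGroup (Fin 3) :=
  if c = 0 then FreeGroup.of 0 else if c = 1 then (FreeGroup.of 0)⁻¹
  else if c = 2 then FreeGroup.of 1 else if c = 3 then (FreeGroup.of 1)⁻¹
  else if c = 4 then FreeGroup.of 2 else (FreeGroup.of 2)⁻¹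

/-- the word of the free group of a word in the six first entries. -/
def co1o_fgWord (r : List ℕ) : FreeGroup (Fin 3) := (r.map co1o_fgLet).prod

theorem co1o_lift_fgWord {G : Type*} [Group G] (f : Fin 3 → G) (x : ℕ → G) (r : List ℕ)
    (hx : ∀ c ∈ r, FreeGroup.lift f (co1o_fgLet c) = x c) :
    FreeGroup.lift f (co1o_fgWord r) = (r.map x).prod := by
  unfold co1o_fgWord
  rw [map_list_prod, List.map_map]
  congr 1
  apply List.map_congr_left
  intro c hc
  exact hx c hc

/-- the values of the letters of the free group. -/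
theorem co1o_lift_let {G : Type*} [Group G] (f : Fin 3 → G) (x : ℕ → G)
    (h0 : x 0 = f 0) (h1 : x 1 = (f 0)⁻¹) (h2 : x 2 = f 1) (h3 : x 3 = (f 1)⁻¹)
    (h4 : x 4 = f 2) (h5 : x 5 = (f 2)⁻¹) (c : ℕ) (hc : c < 6) :
    FreeGroup.lift f (co1o_fgLet c) = x c := by
  unfold co1o_fgLet
  interval_cases c <;> simp [h0, h1, h2, h3, h4, h5]

theorem co1o_lt6_of_mem_flatten {n : ℕ} {l : List ℕ} (hl : ∀ c ∈ l, c < 6) :
    ∀ c ∈ (List.replicate n l).flatten, c < 6 := by
  intro c hc
  rw [List.mem_flatten] at hc
  obtain ⟨l', hl', hc'⟩ := hc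
  rw [List.mem_replicate] at hl'
  rw [hl'.2] at hc'
  exact hl c hc'

end Cfsg.Agent.Co1O
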