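import Mathlib
import Cfsg.Agent.Co1O.GenW

/-!
# S2069 (`Out(Co₁) = 1`): the data of the generation

84 words in the letters, in pairs of an automorphism and its inverse: the three generators `a`,
`c`, `d` (`x ↦ x + 1`, `x ↦ 2 x`, the word of order 3), Schreier generators of the stabiliser of
the standard cross in the subgroup generated by `a, c, d` (monomial), strong generators of this
stabiliser, and the five generators of `Cfsg.Agent.Helper3.Co1ZG`; and for each pair after the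
third a word in earlier entries whose product is the first entry of the pair.
-/

set_option autoImplicit false
set_option maxRecDepth 100000

namespace Cfsg.Agent.Co1O

open Cfsg.Agent.Helper9.LeechAct

/-- the words of the entries, a part. -/
def co1o_lws0 : List (List LLet) :=
  [[{ isXi := false, t := [1, 2, 3, 4, 5, 6, 7, 8, 9, 10, 11, 12, 13, 14, 15, 16, 17, 18, 19, 20, 21, 22, 0, 23], t' := [22, 0, 1, 2, 3, 4, 5, 6, 7, 8, 9, 10, 11, 12, 13, 14, 15, 16, 17, 18, 19, 20, 21, 23], m := 0x0 }],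
   [{ isXi := false, t := [22, 0, 1, 2, 3, 4, 5, 6, 7, 8, 9, 10, 11, 12, 13, 14, 15, 16, 17, 18, 19, 20, 21, 23], t' := [1, 2, 3, 4, 5, 6, 7, 8, 9, 10, 11, 12, 13, 14, 15, 16, 17, 18, 19, 20, 21, 22, 0, 23], m := 0x0 }],
   [{ isXi := false, t := [0, 2, 4, 6, 8, 10, 12, 14, 16, 18, 20, 22, 1, 3, 5, 7, 9, 11, 13, 15, 17, 19, 21, 23], t' := [0, 12, 1, 13, 2, 14, 3, 15, 4, 16, 5, 17, 6, 18, 7, 19, 8, 20, 9, 21, 10, 22, 11, 23], m := 0x0 }],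
   [{ isXi := false, t := [0, 12, 1, 13, 2, 14, 3, 15, 4, 16, 5, 17, 6, 18, 7, 19, 8, 20, 9, 21, 10, 22, 11, 23], t' := [0, 2, 4, 6, 8, 10, 12, 14, 16, 18, 20, 22, 1, 3, 5, 7, 9, 11, 13, 15, 17, 19, 21, 23], m := 0x0 }],
   [{ isXi := false, t := [0, 1, 2, 3, 4, 5, 6, 7, 8, 9, 10, 11, 12, 13, 14, 15, 16, 17, 18, 19, 20, 21, 22, 23], t' := [0, 1, 2, 3, 4, 5, 6, 7, 8, 9, 10, 11, 12, 13, 14, 15, 16, 17, 18, 19, 20, 21, 22, 23], m := 0x0 },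
    { isXi := true, t := [], t' := [], m := 0 },
    { isXi := false, t := [0, 4, 8, 12, 16, 20, 1, 5, 9, 13, 17, 21, 2, 6, 10, 14, 18, 22, 3, 7, 11, 15, 19, 23], t' := [0, 6, 12, 18, 1, 7, 13, 19, 2, 8, 14, 20, 3, 9, 15, 21, 4, 10, 16, 22, 5, 11, 17, 23], m := 0x0 },
    { isXi := true, t := [], t' := [], m := 0 },
    { isXi := false, t := [8, 10, 12, 14, 16, 18, 20, 22, 1, 3, 5, 7, 9, 11, 13, 15, 17, 19, 21, 0, 2, 4, 6, 23], t' := [19, 8, 20, 9, 21, 10, 22, 11, 0, 12, 1, 13, 2, 14, 3, 15, 4, 16, 5, 17, 6, 18, 7, 23], m := 0x803da },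
    { isXi := true, t := [], t' := [], m := 0 },
    { isXi := false, t := [21, 23, 2, 18, 12, 9, 20, 14, 4, 6, 3, 10, 7, 16, 1, 13, 19, 17, 15, 11, 5, 0, 8, 22], t' := [21, 14, 2, 10, 8, 20, 9, 12, 22, 5, 11, 19, 4, 15, 7, 18, 13, 17, 3, 16, 6, 0, 23, 1], m := 0x0 },
    { isXi := true, t := [], t' := [], m := 0 },
    { isXi := false, t := [1, 5, 7, 13, 14, 22, 9, 15, 6, 16, 17, 12, 11, 18, 0, 8, 20, 19, 23, 21, 10, 2, 4, 3], t' := [14, 0, 21, 23, 22, 1, 8, 2, 15, 6, 20, 12, 11, 3, 4, 7, 9, 10, 13, 17, 16, 19, 5, 18], m := 0xe07210 }],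
   [{ isXi := false, t := [14, 0, 21, 23, 22, 1, 8, 2, 15, 6, 20, 12, 11, 3, 4, 7, 9, 10, 13, 17, 16, 19, 5, 18], t' := [1, 5, 7, 13, 14, 22, 9, 15, 6, 16, 17, 12, 11, 18, 0, 8, 20, 19, 23, 21, 10, 2, 4, 3], m := 0x4c0878 },
    { isXi := true, t := [], t' := [], m := 0 },
    { isXi := false, t := [21, 14, 2, 10, 8, 20, 9, 12, 22, 5, 11, 19, 4, 15, 7, 18, 13, 17, 3, 16, 6, 0, 23, 1], t' := [21, 23, 2, 18, 12, 9, 20, 14, 4, 6, 3, 10, 7, 16, 1, 13, 19, 17, 15, 11, 5, 0, 8, 22], m := 0x0 },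
    { isXi := true, t := [], t' := [], m := 0 },
    { isXi := false, t := [19, 8, 20, 9, 21, 10, 22, 11, 0, 12, 1, 13, 2, 14, 3, 15, 4, 16, 5, 17, 6, 18, 7, 23], t' := [8, 10, 12, 14, 16, 18, 20, 22, 1, 3, 5, 7, 9, 11, 13, 15, 17, 19, 21, 0, 2, 4, 6, 23], m := 0x621b01 },
    { isXi := true, t := [], t' := [], m := 0 },
    { isXi := false, t := [0, 6, 12, 18, 1, 7, 13, 19, 2, 8, 14, 20, 3, 9, 15, 21, 4, 10, 16, 22, 5, 11, 17, 23], t' := [0, 4, 8, 12, 16, 20, 1, 5, 9, 13, 17, 21, 2, 6, 10, 14, 18, 22, 3, 7, 11, 15, 19, 23], m := 0x0 },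
    { isXi := true, t := [], t' := [], m := 0 },
    { isXi := false, t := [0, 1, 2, 3, 4, 5, 6, 7, 8, 9, 10, 11, 12, 13, 14, 15, 16, 17, 18, 19, 20, 21, 22, 23], t' := [0, 1, 2, 3, 4, 5, 6, 7, 8, 9, 10, 11, 12, 13, 14, 15, 16, 17, 18, 19, 20, 21, 22, 23], m := 0x0 }]]

/-- the words of the entries, a part. -/
def co1o_lws1 : List (List LLet) :=
  [[{ isXi := false, t := [13, 14, 23, 19, 17, 18, 16, 22, 9, 21, 2, 3, 7, 4, 10, 15, 11, 12, 5, 20, 1, 6, 0, 8], t' := [22, 20, 10, 11, 13, 18, 21, 12, 23, 8, 14, 16, 17, 0, 1, 15, 6, 4, 5, 3, 19, 9, 7, 2], m := 0xc78fbb }],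
   [{ isXi := false, t := [22, 20, 10, 11, 13, 18, 21, 12, 23, 8, 14, 16, 17, 0, 1, 15, 6, 4, 5, 3, 19, 9, 7, 2], t' := [13, 14, 23, 19, 17, 18, 16, 22, 9, 21, 2, 3, 7, 4, 10, 15, 11, 12, 5, 20, 1, 6, 0, 8], m := 0xd5f9f4 }],
   [{ isXi := false, t := [11, 8, 21, 12, 19, 1, 22, 7, 13, 9, 18, 0, 6, 4, 5, 23, 3, 15, 2, 20, 14, 10, 17, 16], t' := [11, 5, 18, 16, 13, 14, 12, 7, 1, 9, 21, 0, 3, 8, 20, 17, 23, 22, 10, 4, 19, 2, 6, 15], m := 0xad757b }],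
   [{ isXi := false, t := [11, 5, 18, 16, 13, 14, 12, 7, 1, 9, 21, 0, 3, 8, 20, 17, 23, 22, 10, 4, 19, 2, 6, 15], t' := [11, 8, 21, 12, 19, 1, 22, 7, 13, 9, 18, 0, 6, 4, 5, 23, 3, 15, 2, 20, 14, 10, 17, 16], m := 0xb1fd3e }],
   [{ isXi := false, t := [1, 14, 7, 4, 9, 3, 0, 2, 10, 17, 23, 16, 11, 21, 5, 8, 13, 20, 12, 22, 6, 15, 19, 18], t' := [6, 0, 7, 5, 3, 14, 20, 2, 15, 4, 8, 12, 18, 16, 1, 21, 11, 9, 23, 22, 17, 13, 19, 10], m := 0x58ec3a }],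
   [{ isXi := false, t := [6, 0, 7, 5, 3, 14, 20, 2, 15, 4, 8, 12, 18, 16, 1, 21, 11, 9, 23, 22, 17, 13, 19, 10], t' := [1, 14, 7, 4, 9, 3, 0, 2, 10, 17, 23, 16, 11, 21, 5, 8, 13, 20, 12, 22, 6, 15, 19, 18], m := 0x6b512b }]]

/-- the words of the entries, a part. -/
def co1o_lws2 : List (List LLet) :=
  [[{ isXi := false, t := [11, 19, 12, 18, 14, 13, 17, 9, 23, 4, 22, 10, 2, 8, 1, 15, 16, 5, 7, 3, 21, 6, 0, 20], t' := [22, 14, 12, 19, 9, 17, 21, 18, 13, 7, 11, 0, 2, 5, 4, 15, 16, 6, 3, 1, 23, 20, 10, 8], m := 0x9e2a71 }],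
   [{ isXi := false, t := [22, 14, 12, 19, 9, 17, 21, 18, 13, 7, 11, 0, 2, 5, 4, 15, 16, 6, 3, 1, 23, 20, 10, 8], t' := [11, 19, 12, 18, 14, 13, 17, 9, 23, 4, 22, 10, 2, 8, 1, 15, 16, 5, 7, 3, 21, 6, 0, 20], m := 0xe203eb }],
   [{ isXi := false, t := [8, 15, 4, 22, 19, 0, 12, 23, 10, 9, 13, 1, 3, 6, 16, 11, 5, 14, 20, 17, 7, 18, 2, 21], t' := [5, 11, 22, 12, 2, 16, 13, 20, 0, 9, 8, 15, 6, 10, 17, 1, 14, 19, 21, 4, 18, 23, 3, 7], m := 0x8a0516 }],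
   [{ isXi := false, t := [5, 11, 22, 12, 2, 16, 13, 20, 0, 9, 8, 15, 6, 10, 17, 1, 14, 19, 21, 4, 18, 23, 3, 7], t' := [8, 15, 4, 22, 19, 0, 12, 23, 10, 9, 13, 1, 3, 6, 16, 11, 5, 14, 20, 17, 7, 18, 2, 21], m := 0x480995 }],
   [{ isXi := false, t := [16, 14, 10, 23, 12, 8, 1, 15, 18, 9, 20, 13, 21, 19, 7, 6, 3, 0, 22, 5, 11, 4, 17, 2], t' := [17, 6, 23, 16, 21, 19, 15, 14, 5, 9, 2, 20, 4, 11, 1, 7, 0, 22, 8, 13, 10, 12, 18, 3], m := 0xe3d342 }],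
   [{ isXi := false, t := [17, 6, 23, 16, 21, 19, 15, 14, 5, 9, 2, 20, 4, 11, 1, 7, 0, 22, 8, 13, 10, 12, 18, 3], t' := [16, 14, 10, 23, 12, 8, 1, 15, 18, 9, 20, 13, 21, 19, 7, 6, 3, 0, 22, 5, 11, 4, 17, 2], m := 0x4492fb }]]

/-- the words of the entries, a part. -/
def co1o_lws3 : List (List LLet) :=
  [[{ isXi := false, t := [23, 7, 10, 13, 18, 14, 4, 2, 3, 9, 1, 0, 5, 17, 11, 12, 16, 6, 20, 22, 8, 15, 19, 21], t' := [11, 10, 7, 8, 6, 12, 17, 1, 20, 9, 2, 14, 15, 3, 5, 21, 16, 13, 4, 22, 18, 23, 19, 0], m := 0xc33e31 }],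
   [{ isXi := false, t := [11, 10, 7, 8, 6, 12, 17, 1, 20, 9, 2, 14, 15, 3, 5, 21, 16, 13, 4, 22, 18, 23, 19, 0], t' := [23, 7, 10, 13, 18, 14, 4, 2, 3, 9, 1, 0, 5, 17, 11, 12, 16, 6, 20, 22, 8, 15, 19, 21], m := 0x9fa4d }],
   [{ isXi := false, t := [14, 13, 0, 4, 11, 18, 5, 17, 6, 21, 23, 7, 8, 1, 20, 16, 10, 22, 15, 12, 3, 9, 2, 19], t' := [2, 13, 22, 20, 3, 6, 8, 11, 12, 21, 16, 4, 19, 1, 0, 18, 15, 7, 5, 23, 14, 9, 17, 10], m := 0x6f1625 }],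
   [{ isXi := false, t := [2, 13, 22, 20, 3, 6, 8, 11, 12, 21, 16, 4, 19, 1, 0, 18, 15, 7, 5, 23, 14, 9, 17, 10], t' := [14, 13, 0, 4, 11, 18, 5, 17, 6, 21, 23, 7, 8, 1, 20, 16, 10, 22, 15, 12, 3, 9, 2, 19], m := 0xeb82e4 }],
   [{ isXi := false, t := [13, 16, 4, 22, 7, 23, 12, 21, 9, 18, 6, 8, 19, 17, 1, 20, 10, 0, 14, 15, 5, 3, 11, 2], t' := [17, 14, 23, 21, 2, 20, 10, 4, 11, 8, 16, 22, 6, 0, 18, 19, 1, 13, 9, 12, 15, 7, 3, 5], m := 0x1d58ec }],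
   [{ isXi := false, t := [17, 14, 23, 21, 2, 20, 10, 4, 11, 8, 16, 22, 6, 0, 18, 19, 1, 13, 9, 12, 15, 7, 3, 5], t' := [13, 16, 4, 22, 7, 23, 12, 21, 9, 18, 6, 8, 19, 17, 1, 20, 10, 0, 14, 15, 5, 3, 11, 2], m := 0xf49652 }]]

/-- the words of the entries, a part. -/
def co1o_lws4 : List (List LLet) :=
  [[{ isXi := false, t := [18, 5, 13, 9, 10, 6, 2, 14, 23, 21, 11, 12, 4, 20, 1, 16, 22, 17, 0, 19, 7, 15, 8, 3], t' := [18, 14, 6, 23, 12, 1, 5, 20, 22, 3, 4, 10, 11, 2, 7, 21, 15, 17, 0, 19, 13, 9, 16, 8], m := 0xc619f1 }],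
   [{ isXi := false, t := [18, 14, 6, 23, 12, 1, 5, 20, 22, 3, 4, 10, 11, 2, 7, 21, 15, 17, 0, 19, 13, 9, 16, 8], t' := [18, 5, 13, 9, 10, 6, 2, 14, 23, 21, 11, 12, 4, 20, 1, 16, 22, 17, 0, 19, 7, 15, 8, 3], m := 0x571d23 }],
   [{ isXi := false, t := [15, 2, 11, 23, 10, 21, 22, 17, 16, 5, 14, 1, 18, 3, 12, 8, 4, 6, 13, 20, 0, 7, 19, 9], t' := [20, 11, 1, 13, 16, 9, 17, 21, 15, 23, 4, 2, 14, 18, 10, 0, 8, 7, 12, 22, 19, 5, 6, 3], m := 0xb8f1f7 }],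
   [{ isXi := false, t := [20, 11, 1, 13, 16, 9, 17, 21, 15, 23, 4, 2, 14, 18, 10, 0, 8, 7, 12, 22, 19, 5, 6, 3], t' := [15, 2, 11, 23, 10, 21, 22, 17, 16, 5, 14, 1, 18, 3, 12, 8, 4, 6, 13, 20, 0, 7, 19, 9], m := 0x7fce2b }],
   [{ isXi := false, t := [14, 0, 18, 22, 13, 17, 1, 19, 5, 7, 4, 2, 20, 11, 16, 9, 21, 23, 10, 3, 8, 6, 15, 12], t' := [1, 6, 11, 19, 10, 8, 21, 9, 20, 15, 18, 13, 23, 4, 0, 22, 14, 5, 2, 7, 12, 16, 3, 17], m := 0xbd6650 }],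
   [{ isXi := false, t := [1, 6, 11, 19, 10, 8, 21, 9, 20, 15, 18, 13, 23, 4, 0, 22, 14, 5, 2, 7, 12, 16, 3, 17], t' := [14, 0, 18, 22, 13, 17, 1, 19, 5, 7, 4, 2, 20, 11, 16, 9, 21, 23, 10, 3, 8, 6, 15, 12], m := 0x27d495 }]]

/-- the words of the entries, a part. -/
def co1o_lws5 : List (List LLet) :=
  [[{ isXi := false, t := [1, 9, 2, 13, 17, 12, 15, 0, 6, 11, 7, 16, 8, 22, 19, 4, 21, 3, 5, 10, 14, 20, 18, 23], t' := [7, 0, 2, 17, 15, 18, 8, 10, 12, 1, 19, 9, 5, 3, 20, 6, 11, 4, 22, 14, 21, 16, 13, 23], m := 0x778b12 }],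
   [{ isXi := false, t := [7, 0, 2, 17, 15, 18, 8, 10, 12, 1, 19, 9, 5, 3, 20, 6, 11, 4, 22, 14, 21, 16, 13, 23], t' := [1, 9, 2, 13, 17, 12, 15, 0, 6, 11, 7, 16, 8, 22, 19, 4, 21, 3, 5, 10, 14, 20, 18, 23], m := 0x61ba53 }],
   [{ isXi := false, t := [0, 7, 15, 9, 5, 14, 10, 18, 19, 3, 13, 22, 20, 4, 17, 11, 1, 21, 16, 12, 2, 6, 8, 23], t' := [0, 16, 20, 9, 13, 4, 21, 1, 22, 3, 6, 15, 19, 10, 5, 2, 18, 14, 7, 8, 12, 17, 11, 23], m := 0x374a78 }],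
   [{ isXi := false, t := [0, 16, 20, 9, 13, 4, 21, 1, 22, 3, 6, 15, 19, 10, 5, 2, 18, 14, 7, 8, 12, 17, 11, 23], t' := [0, 7, 15, 9, 5, 14, 10, 18, 19, 3, 13, 22, 20, 4, 17, 11, 1, 21, 16, 12, 2, 6, 8, 23], m := 0x26f2b8 }],
   [{ isXi := false, t := [0, 1, 4, 8, 2, 15, 19, 20, 9, 21, 14, 12, 6, 22, 5, 10, 16, 7, 17, 11, 18, 3, 13, 23], t' := [0, 1, 4, 21, 2, 14, 12, 17, 3, 8, 15, 19, 11, 22, 10, 5, 16, 18, 20, 6, 7, 9, 13, 23], m := 0x257ad4 }],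
   [{ isXi := false, t := [0, 1, 4, 21, 2, 14, 12, 17, 3, 8, 15, 19, 11, 22, 10, 5, 16, 18, 20, 6, 7, 9, 13, 23], t' := [0, 1, 4, 8, 2, 15, 19, 20, 9, 21, 14, 12, 6, 22, 5, 10, 16, 7, 17, 11, 18, 3, 13, 23], m := 0x5b1f14 }]]

/-- the words of the entries, a part. -/
def co1o_lws6 : List (List LLet) :=
  [[{ isXi := false, t := [0, 1, 16, 5, 4, 12, 11, 6, 9, 20, 21, 7, 3, 13, 10, 17, 22, 19, 18, 15, 8, 14, 2, 23], t' := [0, 1, 22, 12, 4, 3, 7, 11, 20, 8, 14, 6, 5, 13, 21, 19, 2, 15, 18, 17, 9, 10, 16, 23], m := 0x7fdab4 }],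
   [{ isXi := false, t := [0, 1, 22, 12, 4, 3, 7, 11, 20, 8, 14, 6, 5, 13, 21, 19, 2, 15, 18, 17, 9, 10, 16, 23], t' := [0, 1, 16, 5, 4, 12, 11, 6, 9, 20, 21, 7, 3, 13, 10, 17, 22, 19, 18, 15, 8, 14, 2, 23], m := 0x6f8f7c }],
   [{ isXi := false, t := [0, 1, 14, 19, 5, 22, 13, 20, 18, 11, 15, 10, 21, 17, 8, 6, 3, 9, 4, 12, 16, 7, 2, 23], t' := [0, 1, 22, 16, 18, 4, 15, 21, 14, 17, 11, 9, 19, 6, 2, 10, 20, 13, 8, 3, 7, 12, 5, 23], m := 0x7e65c0 }],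
   [{ isXi := false, t := [0, 1, 22, 16, 18, 4, 15, 21, 14, 17, 11, 9, 19, 6, 2, 10, 20, 13, 8, 3, 7, 12, 5, 23], t' := [0, 1, 14, 19, 5, 22, 13, 20, 18, 11, 15, 10, 21, 17, 8, 6, 3, 9, 4, 12, 16, 7, 2, 23], m := 0x20f9ec }],
   [{ isXi := false, t := [0, 1, 2, 21, 4, 7, 20, 15, 8, 3, 17, 18, 11, 16, 6, 5, 22, 19, 12, 10, 14, 9, 13, 23], t' := [0, 1, 2, 9, 4, 15, 14, 5, 8, 21, 19, 12, 18, 22, 20, 7, 13, 10, 11, 17, 6, 3, 16, 23], m := 0x5b4d68 }],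
   [{ isXi := false, t := [0, 1, 2, 9, 4, 15, 14, 5, 8, 21, 19, 12, 18, 22, 20, 7, 13, 10, 11, 17, 6, 3, 16, 23], t' := [0, 1, 2, 21, 4, 7, 20, 15, 8, 3, 17, 18, 11, 16, 6, 5, 22, 19, 12, 10, 14, 9, 13, 23], m := 0x1bf740 }]]

/-- the words of the entries, a part. -/
def co1o_lws7 : List (List LLet) :=
  [[{ isXi := false, t := [0, 1, 2, 11, 3, 18, 10, 9, 7, 13, 22, 19, 6, 17, 12, 16, 5, 8, 21, 20, 4, 15, 14, 23], t' := [0, 1, 2, 4, 20, 16, 12, 8, 17, 7, 6, 3, 14, 9, 22, 21, 15, 13, 5, 11, 19, 18, 10, 23], m := 0x4c0878 }],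
   [{ isXi := false, t := [0, 1, 2, 4, 20, 16, 12, 8, 17, 7, 6, 3, 14, 9, 22, 21, 15, 13, 5, 11, 19, 18, 10, 23], t' := [0, 1, 2, 11, 3, 18, 10, 9, 7, 13, 22, 19, 6, 17, 12, 16, 5, 8, 21, 20, 4, 15, 14, 23], m := 0x111c38 }],
   [{ isXi := false, t := [0, 1, 2, 3, 6, 5, 4, 22, 20, 12, 11, 10, 9, 19, 14, 18, 21, 17, 15, 13, 8, 16, 7, 23], t' := [0, 1, 2, 3, 6, 5, 4, 22, 20, 12, 11, 10, 9, 19, 14, 18, 21, 17, 15, 13, 8, 16, 7, 23], m := 0x46e300 }],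
   [{ isXi := false, t := [0, 1, 2, 3, 6, 5, 4, 22, 20, 12, 11, 10, 9, 19, 14, 18, 21, 17, 15, 13, 8, 16, 7, 23], t' := [0, 1, 2, 3, 6, 5, 4, 22, 20, 12, 11, 10, 9, 19, 14, 18, 21, 17, 15, 13, 8, 16, 7, 23], m := 0x1ed080 }],
   [{ isXi := false, t := [0, 1, 2, 3, 11, 17, 16, 22, 7, 15, 9, 19, 6, 18, 5, 10, 12, 14, 21, 4, 20, 13, 8, 23], t' := [0, 1, 2, 3, 19, 14, 12, 8, 22, 10, 15, 4, 16, 21, 17, 9, 6, 5, 13, 11, 20, 18, 7, 23], m := 0x48c2b0 }],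
   [{ isXi := false, t := [0, 1, 2, 3, 19, 14, 12, 8, 22, 10, 15, 4, 16, 21, 17, 9, 6, 5, 13, 11, 20, 18, 7, 23], t' := [0, 1, 2, 3, 11, 17, 16, 22, 7, 15, 9, 19, 6, 18, 5, 10, 12, 14, 21, 4, 20, 13, 8, 23], m := 0xa4f80 }]]

/-- the words of the entries, a part. -/
def co1o_lws8 : List (List LLet) :=
  [[{ isXi := false, t := [0, 1, 2, 3, 20, 14, 22, 13, 12, 6, 21, 11, 18, 15, 17, 7, 10, 5, 8, 4, 19, 16, 9, 23], t' := [0, 1, 2, 3, 19, 17, 9, 15, 18, 22, 16, 11, 8, 7, 5, 13, 21, 14, 12, 20, 4, 10, 6, 23], m := 0x311350 }],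
   [{ isXi := false, t := [0, 1, 2, 3, 19, 17, 9, 15, 18, 22, 16, 11, 8, 7, 5, 13, 21, 14, 12, 20, 4, 10, 6, 23], t' := [0, 1, 2, 3, 20, 14, 22, 13, 12, 6, 21, 11, 18, 15, 17, 7, 10, 5, 8, 4, 19, 16, 9, 23], m := 0x6c0710 }],
   [{ isXi := false, t := [0, 1, 2, 3, 4, 5, 6, 7, 8, 9, 10, 11, 12, 13, 14, 15, 16, 17, 18, 19, 20, 21, 22, 23], t' := [0, 1, 2, 3, 4, 5, 6, 7, 8, 9, 10, 11, 12, 13, 14, 15, 16, 17, 18, 19, 20, 21, 22, 23], m := 0x55c820 }],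
   [{ isXi := false, t := [0, 1, 2, 3, 4, 5, 6, 7, 8, 9, 10, 11, 12, 13, 14, 15, 16, 17, 18, 19, 20, 21, 22, 23], t' := [0, 1, 2, 3, 4, 5, 6, 7, 8, 9, 10, 11, 12, 13, 14, 15, 16, 17, 18, 19, 20, 21, 22, 23], m := 0x55c820 }],
   [{ isXi := false, t := [0, 1, 2, 3, 4, 5, 6, 7, 8, 9, 10, 11, 12, 13, 14, 15, 16, 17, 18, 19, 20, 21, 22, 23], t' := [0, 1, 2, 3, 4, 5, 6, 7, 8, 9, 10, 11, 12, 13, 14, 15, 16, 17, 18, 19, 20, 21, 22, 23], m := 0x11b8c0 }],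
   [{ isXi := false, t := [0, 1, 2, 3, 4, 5, 6, 7, 8, 9, 10, 11, 12, 13, 14, 15, 16, 17, 18, 19, 20, 21, 22, 23], t' := [0, 1, 2, 3, 4, 5, 6, 7, 8, 9, 10, 11, 12, 13, 14, 15, 16, 17, 18, 19, 20, 21, 22, 23], m := 0x11b8c0 }]]

/-- the words of the entries, a part. -/
def co1o_lws9 : List (List LLet) :=
  [[{ isXi := false, t := [0, 1, 2, 3, 4, 14, 15, 10, 21, 8, 12, 19, 7, 22, 17, 18, 13, 5, 6, 20, 11, 9, 16, 23], t' := [0, 1, 2, 3, 4, 17, 18, 12, 9, 21, 7, 20, 10, 16, 5, 6, 22, 14, 15, 11, 19, 8, 13, 23], m := 0x79d1e0 }],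
   [{ isXi := false, t := [0, 1, 2, 3, 4, 17, 18, 12, 9, 21, 7, 20, 10, 16, 5, 6, 22, 14, 15, 11, 19, 8, 13, 23], t' := [0, 1, 2, 3, 4, 14, 15, 10, 21, 8, 12, 19, 7, 22, 17, 18, 13, 5, 6, 20, 11, 9, 16, 23], m := 0x4e3f60 }],
   [{ isXi := false, t := [0, 1, 2, 3, 4, 5, 6, 7, 8, 9, 10, 11, 12, 13, 14, 15, 16, 17, 18, 19, 20, 21, 22, 23], t' := [0, 1, 2, 3, 4, 5, 6, 7, 8, 9, 10, 11, 12, 13, 14, 15, 16, 17, 18, 19, 20, 21, 22, 23], m := 0x3da100 }],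
   [{ isXi := false, t := [0, 1, 2, 3, 4, 5, 6, 7, 8, 9, 10, 11, 12, 13, 14, 15, 16, 17, 18, 19, 20, 21, 22, 23], t' := [0, 1, 2, 3, 4, 5, 6, 7, 8, 9, 10, 11, 12, 13, 14, 15, 16, 17, 18, 19, 20, 21, 22, 23], m := 0x3da100 }],
   [{ isXi := false, t := [0, 1, 2, 3, 4, 5, 6, 7, 8, 9, 10, 11, 12, 13, 14, 15, 16, 17, 18, 19, 20, 21, 22, 23], t' := [0, 1, 2, 3, 4, 5, 6, 7, 8, 9, 10, 11, 12, 13, 14, 15, 16, 17, 18, 19, 20, 21, 22, 23], m := 0x293e00 }],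
   [{ isXi := false, t := [0, 1, 2, 3, 4, 5, 6, 7, 8, 9, 10, 11, 12, 13, 14, 15, 16, 17, 18, 19, 20, 21, 22, 23], t' := [0, 1, 2, 3, 4, 5, 6, 7, 8, 9, 10, 11, 12, 13, 14, 15, 16, 17, 18, 19, 20, 21, 22, 23], m := 0x293e00 }]]

/-- the words of the entries, a part. -/
def co1o_lws10 : List (List LLet) :=
  [[{ isXi := false, t := [0, 1, 2, 3, 4, 5, 6, 7, 8, 9, 10, 11, 12, 13, 14, 15, 16, 17, 18, 19, 20, 21, 22, 23], t' := [0, 1, 2, 3, 4, 5, 6, 7, 8, 9, 10, 11, 12, 13, 14, 15, 16, 17, 18, 19, 20, 21, 22, 23], m := 0x4cac80 }],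
   [{ isXi := false, t := [0, 1, 2, 3, 4, 5, 6, 7, 8, 9, 10, 11, 12, 13, 14, 15, 16, 17, 18, 19, 20, 21, 22, 23], t' := [0, 1, 2, 3, 4, 5, 6, 7, 8, 9, 10, 11, 12, 13, 14, 15, 16, 17, 18, 19, 20, 21, 22, 23], m := 0x4cac80 }],
   [{ isXi := false, t := [0, 1, 2, 3, 4, 5, 6, 7, 8, 9, 10, 11, 12, 13, 14, 15, 16, 17, 18, 19, 20, 21, 22, 23], t' := [0, 1, 2, 3, 4, 5, 6, 7, 8, 9, 10, 11, 12, 13, 14, 15, 16, 17, 18, 19, 20, 21, 22, 23], m := 0x527c00 }],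
   [{ isXi := false, t := [0, 1, 2, 3, 4, 5, 6, 7, 8, 9, 10, 11, 12, 13, 14, 15, 16, 17, 18, 19, 20, 21, 22, 23], t' := [0, 1, 2, 3, 4, 5, 6, 7, 8, 9, 10, 11, 12, 13, 14, 15, 16, 17, 18, 19, 20, 21, 22, 23], m := 0x527c00 }],
   [{ isXi := false, t := [3, 4, 6, 8, 10, 12, 17, 2, 1, 23, 22, 5, 16, 18, 11, 7, 9, 15, 21, 19, 14, 13, 20, 0], t' := [23, 8, 7, 0, 1, 11, 2, 15, 3, 16, 4, 14, 5, 21, 20, 17, 12, 6, 13, 19, 22, 18, 10, 9], m := 0x1c111c }],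
   [{ isXi := false, t := [23, 8, 7, 0, 1, 11, 2, 15, 3, 16, 4, 14, 5, 21, 20, 17, 12, 6, 13, 19, 22, 18, 10, 9], t' := [3, 4, 6, 8, 10, 12, 17, 2, 1, 23, 22, 5, 16, 18, 11, 7, 9, 15, 21, 19, 14, 13, 20, 0], m := 0x4820ab }]]

/-- the words of the entries, a part. -/
def co1o_lws11 : List (List LLet) :=
  [[{ isXi := false, t := [23, 15, 19, 5, 21, 3, 14, 12, 22, 17, 13, 16, 7, 10, 6, 1, 11, 9, 20, 2, 18, 4, 8, 0], t' := [23, 15, 19, 5, 21, 3, 14, 12, 22, 17, 13, 16, 7, 10, 6, 1, 11, 9, 20, 2, 18, 4, 8, 0], m := 0x0 },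
    { isXi := true, t := [], t' := [], m := 0 },
    { isXi := false, t := [23, 11, 1, 10, 5, 16, 9, 14, 13, 18, 8, 6, 20, 22, 21, 12, 15, 3, 17, 4, 0, 7, 19, 2], t' := [20, 2, 23, 17, 19, 4, 11, 21, 10, 6, 3, 1, 15, 8, 7, 16, 5, 18, 9, 22, 12, 14, 13, 0], m := 0x800c75 },
    { isXi := true, t := [], t' := [], m := 0 },
    { isXi := false, t := [23, 18, 21, 4, 7, 13, 16, 5, 10, 22, 9, 20, 6, 12, 19, 1, 14, 11, 8, 0, 17, 15, 3, 2], t' := [19, 15, 23, 22, 3, 7, 12, 4, 18, 10, 8, 17, 13, 5, 16, 21, 6, 20, 1, 14, 11, 2, 9, 0], m := 0x3fbf26 }],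
   [{ isXi := false, t := [19, 15, 23, 22, 3, 7, 12, 4, 18, 10, 8, 17, 13, 5, 16, 21, 6, 20, 1, 14, 11, 2, 9, 0], t' := [23, 18, 21, 4, 7, 13, 16, 5, 10, 22, 9, 20, 6, 12, 19, 1, 14, 11, 8, 0, 17, 15, 3, 2], m := 0xb6ede6 },
    { isXi := true, t := [], t' := [], m := 0 },
    { isXi := false, t := [20, 2, 23, 17, 19, 4, 11, 21, 10, 6, 3, 1, 15, 8, 7, 16, 5, 18, 9, 22, 12, 14, 13, 0], t' := [23, 11, 1, 10, 5, 16, 9, 14, 13, 18, 8, 6, 20, 22, 21, 12, 15, 3, 17, 4, 0, 7, 19, 2], m := 0x98081b },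
    { isXi := true, t := [], t' := [], m := 0 },
    { isXi := false, t := [23, 15, 19, 5, 21, 3, 14, 12, 22, 17, 13, 16, 7, 10, 6, 1, 11, 9, 20, 2, 18, 4, 8, 0], t' := [23, 15, 19, 5, 21, 3, 14, 12, 22, 17, 13, 16, 7, 10, 6, 1, 11, 9, 20, 2, 18, 4, 8, 0], m := 0x0 }],
   [{ isXi := false, t := [18, 6, 16, 21, 19, 10, 5, 9, 1, 22, 2, 8, 3, 14, 15, 23, 13, 4, 20, 12, 7, 0, 17, 11], t' := [21, 8, 10, 12, 17, 6, 1, 20, 11, 7, 5, 23, 19, 16, 13, 14, 2, 22, 0, 4, 18, 3, 9, 15], m := 0xaf3921 }],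
   [{ isXi := false, t := [21, 8, 10, 12, 17, 6, 1, 20, 11, 7, 5, 23, 19, 16, 13, 14, 2, 22, 0, 4, 18, 3, 9, 15], t' := [18, 6, 16, 21, 19, 10, 5, 9, 1, 22, 2, 8, 3, 14, 15, 23, 13, 4, 20, 12, 7, 0, 17, 11], m := 0xe9885d }],
   [{ isXi := false, t := [15, 2, 10, 12, 16, 19, 20, 0, 3, 6, 11, 17, 22, 14, 18, 8, 5, 21, 13, 23, 7, 9, 4, 1], t' := [7, 23, 1, 8, 22, 16, 9, 20, 15, 21, 2, 10, 3, 18, 13, 0, 4, 11, 14, 5, 6, 17, 12, 19], m := 0x0 },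
    { isXi := true, t := [], t' := [], m := 0 },
    { isXi := false, t := [19, 8, 14, 10, 9, 16, 3, 17, 12, 4, 11, 5, 7, 22, 21, 18, 23, 6, 2, 13, 15, 20, 0, 1], t' := [22, 23, 18, 6, 9, 11, 17, 12, 1, 4, 3, 10, 8, 19, 2, 20, 5, 7, 15, 0, 21, 14, 13, 16], m := 0x0 },
    { isXi := true, t := [], t' := [], m := 0 },
    { isXi := false, t := [3, 11, 4, 23, 17, 21, 18, 22, 20, 8, 2, 10, 12, 9, 15, 1, 0, 14, 16, 19, 13, 6, 7, 5], t' := [16, 15, 10, 0, 2, 23, 21, 22, 9, 13, 11, 1, 12, 20, 17, 14, 18, 4, 6, 19, 8, 5, 7, 3], m := 0xf1cad0 }],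
   [{ isXi := false, t := [16, 15, 10, 0, 2, 23, 21, 22, 9, 13, 11, 1, 12, 20, 17, 14, 18, 4, 6, 19, 8, 5, 7, 3], t' := [3, 11, 4, 23, 17, 21, 18, 22, 20, 8, 2, 10, 12, 9, 15, 1, 0, 14, 16, 19, 13, 6, 7, 5], m := 0x6661ae },
    { isXi := true, t := [], t' := [], m := 0 },
    { isXi := false, t := [22, 23, 18, 6, 9, 11, 17, 12, 1, 4, 3, 10, 8, 19, 2, 20, 5, 7, 15, 0, 21, 14, 13, 16], t' := [19, 8, 14, 10, 9, 16, 3, 17, 12, 4, 11, 5, 7, 22, 21, 18, 23, 6, 2, 13, 15, 20, 0, 1], m := 0x0 },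
    { isXi := true, t := [], t' := [], m := 0 },
    { isXi := false, t := [7, 23, 1, 8, 22, 16, 9, 20, 15, 21, 2, 10, 3, 18, 13, 0, 4, 11, 14, 5, 6, 17, 12, 19], t' := [15, 2, 10, 12, 16, 19, 20, 0, 3, 6, 11, 17, 22, 14, 18, 8, 5, 21, 13, 23, 7, 9, 4, 1], m := 0x0 }]]

/-- the words of the entries, a part. -/
def co1o_lws12 : List (List LLet) :=
  [[{ isXi := false, t := [0, 21, 8, 12, 2, 14, 16, 20, 11, 18, 7, 10, 15, 4, 6, 22, 9, 5, 19, 17, 13, 1, 3, 23], t' := [0, 21, 4, 22, 13, 17, 14, 10, 2, 16, 11, 8, 3, 20, 5, 12, 6, 19, 9, 18, 7, 1, 15, 23], m := 0x2c5f23 }],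
   [{ isXi := false, t := [0, 21, 4, 22, 13, 17, 14, 10, 2, 16, 11, 8, 3, 20, 5, 12, 6, 19, 9, 18, 7, 1, 15, 23], t' := [0, 21, 8, 12, 2, 14, 16, 20, 11, 18, 7, 10, 15, 4, 6, 22, 9, 5, 19, 17, 13, 1, 3, 23], m := 0x270b2f }],
   [{ isXi := false, t := [0, 9, 18, 4, 13, 22, 8, 17, 3, 12, 21, 7, 16, 2, 11, 20, 6, 15, 1, 10, 19, 5, 14, 23], t' := [0, 18, 13, 8, 3, 21, 16, 11, 6, 1, 19, 14, 9, 4, 22, 17, 12, 7, 2, 20, 15, 10, 5, 23], m := 0x0 },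
    { isXi := true, t := [], t' := [], m := 0 },
    { isXi := false, t := [7, 13, 9, 8, 15, 2, 16, 11, 3, 10, 4, 6, 21, 20, 17, 23, 5, 1, 12, 14, 19, 22, 18, 0], t' := [23, 17, 5, 8, 10, 16, 11, 0, 3, 2, 9, 7, 18, 1, 19, 4, 6, 14, 22, 20, 13, 12, 21, 15], m := 0x800c75 },
    { isXi := true, t := [], t' := [], m := 0 },
    { isXi := false, t := [17, 20, 23, 18, 2, 14, 3, 4, 19, 12, 0, 1, 7, 16, 21, 11, 22, 13, 9, 8, 15, 6, 10, 5], t' := [10, 11, 4, 6, 7, 23, 21, 12, 19, 18, 22, 15, 9, 17, 5, 20, 13, 0, 3, 8, 1, 14, 16, 2], m := 0x64a032 }],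
   [{ isXi := false, t := [10, 11, 4, 6, 7, 23, 21, 12, 19, 18, 22, 15, 9, 17, 5, 20, 13, 0, 3, 8, 1, 14, 16, 2], t' := [17, 20, 23, 18, 2, 14, 3, 4, 19, 12, 0, 1, 7, 16, 21, 11, 22, 13, 9, 8, 15, 6, 10, 5], m := 0x934888 },
    { isXi := true, t := [], t' := [], m := 0 },
    { isXi := false, t := [23, 17, 5, 8, 10, 16, 11, 0, 3, 2, 9, 7, 18, 1, 19, 4, 6, 14, 22, 20, 13, 12, 21, 15], t' := [7, 13, 9, 8, 15, 2, 16, 11, 3, 10, 4, 6, 21, 20, 17, 23, 5, 1, 12, 14, 19, 22, 18, 0], m := 0x818ea0 },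
    { isXi := true, t := [], t' := [], m := 0 },
    { isXi := false, t := [0, 18, 13, 8, 3, 21, 16, 11, 6, 1, 19, 14, 9, 4, 22, 17, 12, 7, 2, 20, 15, 10, 5, 23], t' := [0, 9, 18, 4, 13, 22, 8, 17, 3, 12, 21, 7, 16, 2, 11, 20, 6, 15, 1, 10, 19, 5, 14, 23], m := 0x0 }],
   [{ isXi := false, t := [15, 22, 19, 1, 21, 11, 10, 17, 16, 4, 8, 0, 7, 18, 5, 13, 14, 2, 20, 12, 3, 9, 6, 23], t' := [11, 3, 17, 20, 9, 14, 22, 12, 10, 21, 6, 5, 19, 15, 16, 0, 8, 7, 13, 2, 18, 4, 1, 23], m := 0x6226a0 }],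
   [{ isXi := false, t := [11, 3, 17, 20, 9, 14, 22, 12, 10, 21, 6, 5, 19, 15, 16, 0, 8, 7, 13, 2, 18, 4, 1, 23], t' := [15, 22, 19, 1, 21, 11, 10, 17, 16, 4, 8, 0, 7, 18, 5, 13, 14, 2, 20, 12, 3, 9, 6, 23], m := 0x20d0d2 }]]

/-- the words of the entries, a part. -/
def co1o_lws13 : List (List LLet) :=
  [[{ isXi := false, t := [0, 12, 4, 2, 9, 14, 16, 11, 3, 8, 20, 5, 13, 6, 19, 10, 1, 15, 18, 7, 22, 21, 17, 23], t' := [0, 16, 3, 8, 2, 11, 13, 19, 9, 4, 15, 7, 1, 12, 5, 17, 6, 22, 18, 14, 10, 21, 20, 23], m := 0x800c75 },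
    { isXi := true, t := [], t' := [], m := 0 },
    { isXi := false, t := [10, 12, 14, 16, 18, 20, 22, 1, 3, 5, 7, 9, 11, 13, 15, 17, 19, 21, 0, 2, 4, 6, 8, 23], t' := [18, 7, 19, 8, 20, 9, 21, 10, 22, 11, 0, 12, 1, 13, 2, 14, 3, 15, 4, 16, 5, 17, 6, 23], m := 0x200f68 },
    { isXi := true, t := [], t' := [], m := 0 },
    { isXi := false, t := [21, 17, 15, 1, 12, 10, 22, 9, 14, 7, 13, 8, 20, 0, 5, 18, 16, 23, 11, 3, 2, 4, 19, 6], t' := [13, 3, 20, 19, 21, 14, 23, 9, 11, 7, 5, 18, 4, 10, 8, 2, 16, 1, 15, 22, 12, 0, 6, 17], m := 0x5e6aa8 }],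
   [{ isXi := false, t := [13, 3, 20, 19, 21, 14, 23, 9, 11, 7, 5, 18, 4, 10, 8, 2, 16, 1, 15, 22, 12, 0, 6, 17], t' := [21, 17, 15, 1, 12, 10, 22, 9, 14, 7, 13, 8, 20, 0, 5, 18, 16, 23, 11, 3, 2, 4, 19, 6], m := 0x4cd7c2 },
    { isXi := true, t := [], t' := [], m := 0 },
    { isXi := false, t := [18, 7, 19, 8, 20, 9, 21, 10, 22, 11, 0, 12, 1, 13, 2, 14, 3, 15, 4, 16, 5, 17, 6, 23], t' := [10, 12, 14, 16, 18, 20, 22, 1, 3, 5, 7, 9, 11, 13, 15, 17, 19, 21, 0, 2, 4, 6, 8, 23], m := 0x621b01 },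
    { isXi := true, t := [], t' := [], m := 0 },
    { isXi := false, t := [0, 16, 3, 8, 2, 11, 13, 19, 9, 4, 15, 7, 1, 12, 5, 17, 6, 22, 18, 14, 10, 21, 20, 23], t' := [0, 12, 4, 2, 9, 14, 16, 11, 3, 8, 20, 5, 13, 6, 19, 10, 1, 15, 18, 7, 22, 21, 17, 23], m := 0x80a88d }],
   [{ isXi := false, t := [22, 8, 19, 9, 10, 11, 2, 18, 14, 3, 21, 17, 4, 7, 15, 0, 23, 16, 12, 1, 20, 13, 5, 6], t' := [15, 19, 6, 9, 12, 22, 23, 13, 1, 3, 4, 5, 18, 21, 8, 14, 17, 11, 7, 2, 20, 10, 0, 16], m := 0x2475c7 }],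
   [{ isXi := false, t := [15, 19, 6, 9, 12, 22, 23, 13, 1, 3, 4, 5, 18, 21, 8, 14, 17, 11, 7, 2, 20, 10, 0, 16], t' := [22, 8, 19, 9, 10, 11, 2, 18, 14, 3, 21, 17, 4, 7, 15, 0, 23, 16, 12, 1, 20, 13, 5, 6], m := 0xaca5d2 }],
   [{ isXi := false, t := [0, 2, 4, 6, 8, 10, 12, 14, 16, 18, 20, 22, 1, 3, 5, 7, 9, 11, 13, 15, 17, 19, 21, 23], t' := [0, 12, 1, 13, 2, 14, 3, 15, 4, 16, 5, 17, 6, 18, 7, 19, 8, 20, 9, 21, 10, 22, 11, 23], m := 0x0 },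
    { isXi := true, t := [], t' := [], m := 0 },
    { isXi := false, t := [4, 3, 22, 2, 6, 17, 13, 8, 20, 9, 10, 18, 16, 14, 12, 5, 0, 11, 21, 15, 1, 19, 7, 23], t' := [16, 20, 3, 1, 0, 15, 4, 22, 7, 9, 10, 17, 14, 6, 13, 19, 12, 5, 11, 21, 8, 18, 2, 23], m := 0x0 },
    { isXi := true, t := [], t' := [], m := 0 },
    { isXi := false, t := [12, 16, 20, 1, 5, 9, 13, 17, 21, 2, 6, 10, 14, 18, 22, 3, 7, 11, 15, 19, 0, 4, 8, 23], t' := [20, 3, 9, 15, 21, 4, 10, 16, 22, 5, 11, 17, 0, 6, 12, 18, 1, 7, 13, 19, 2, 8, 14, 23], m := 0x0 },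
    { isXi := true, t := [], t' := [], m := 0 },
    { isXi := false, t := [22, 11, 18, 17, 4, 12, 3, 21, 19, 16, 14, 10, 7, 0, 6, 20, 23, 1, 13, 8, 5, 2, 9, 15], t' := [13, 17, 21, 6, 4, 20, 14, 12, 19, 22, 11, 1, 5, 18, 10, 23, 9, 3, 2, 8, 15, 7, 0, 16], m := 0x4fc6f7 }],
   [{ isXi := false, t := [13, 17, 21, 6, 4, 20, 14, 12, 19, 22, 11, 1, 5, 18, 10, 23, 9, 3, 2, 8, 15, 7, 0, 16], t' := [22, 11, 18, 17, 4, 12, 3, 21, 19, 16, 14, 10, 7, 0, 6, 20, 23, 1, 13, 8, 5, 2, 9, 15], m := 0xf27f1d },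
    { isXi := true, t := [], t' := [], m := 0 },
    { isXi := false, t := [20, 3, 9, 15, 21, 4, 10, 16, 22, 5, 11, 17, 0, 6, 12, 18, 1, 7, 13, 19, 2, 8, 14, 23], t' := [12, 16, 20, 1, 5, 9, 13, 17, 21, 2, 6, 10, 14, 18, 22, 3, 7, 11, 15, 19, 0, 4, 8, 23], m := 0x0 },
    { isXi := true, t := [], t' := [], m := 0 },
    { isXi := false, t := [16, 20, 3, 1, 0, 15, 4, 22, 7, 9, 10, 17, 14, 6, 13, 19, 12, 5, 11, 21, 8, 18, 2, 23], t' := [4, 3, 22, 2, 6, 17, 13, 8, 20, 9, 10, 18, 16, 14, 12, 5, 0, 11, 21, 15, 1, 19, 7, 23], m := 0x0 },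
    { isXi := true, t := [], t' := [], m := 0 },
    { isXi := false, t := [0, 12, 1, 13, 2, 14, 3, 15, 4, 16, 5, 17, 6, 18, 7, 19, 8, 20, 9, 21, 10, 22, 11, 23], t' := [0, 2, 4, 6, 8, 10, 12, 14, 16, 18, 20, 22, 1, 3, 5, 7, 9, 11, 13, 15, 17, 19, 21, 23], m := 0x0 }]]

/-- the words of the entries. -/
def co1o_lws : List (List LLet) :=
  co1o_lws0 ++ co1o_lws1 ++ co1o_lws2 ++ co1o_lws3 ++ co1o_lws4 ++ co1o_lws5 ++ co1o_lws6 ++ co1o_lws7 ++ co1o_lws8 ++ co1o_lws9 ++ co1o_lws10 ++ co1o_lws11 ++ co1o_lws12 ++ co1o_lws13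

/-- the words of the first entries of the pairs after the third. -/
def co1o_defs : List (List ℕ) :=
  [[5, 1, 2, 5, 0, 4, 0, 3, 0, 3, 4, 1, 3, 3, 5, 3, 3, 0, 4, 1, 5, 1, 2, 1, 1, 5, 3, 0, 5, 0, 4],
   [4, 1, 2, 1, 5, 1, 1, 5, 0, 5, 0, 3, 5, 0, 5, 5, 2, 0, 5, 1, 4, 2, 1, 5, 0, 4, 3, 3, 0, 4],
   [4, 0, 5, 1, 1, 1, 4, 1, 2, 2, 4, 1, 1, 5, 1, 1, 3, 1, 5, 0, 4, 2, 2, 1, 5, 1, 1, 4],
   [5, 0, 5, 0, 2, 2, 5, 1, 5, 0, 4, 0, 3, 4, 0, 4, 3, 0, 5, 1, 4, 1, 4, 2, 1, 5, 0, 0, 4, 0, 4, 0, 4],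
   [5, 1, 5, 0, 2, 0, 5, 0, 5, 0, 2, 0, 4, 1, 5, 1, 5, 0, 5, 3, 0, 4, 1, 2, 2, 1, 4, 1, 4, 0, 4],
   [5, 1, 4, 0, 4, 1, 3, 1, 4, 1, 3, 5, 0, 2, 0, 0, 2, 1, 1, 4, 0, 2, 0, 4, 2, 1, 4, 0, 4, 2, 0, 0, 4],
   [5, 1, 1, 4, 0, 5, 0, 3, 0, 5, 1, 4, 1, 5, 1, 2, 1, 1, 4, 1, 2, 1, 5, 1, 4, 1, 2, 1, 1, 4, 0, 5],
   [5, 1, 2, 5, 0, 4, 0, 2, 0, 4, 1, 2, 1, 5, 1, 2, 0, 5, 2, 1, 5, 1, 1, 4, 1, 1, 1, 4, 3, 0, 4],
   [4, 1, 4, 1, 1, 1, 5, 0, 4, 0, 4, 1, 4, 1, 1, 5, 0, 5, 1, 2, 1, 5, 0, 5, 0, 4, 0, 0, 5, 1, 4],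
   [5, 0, 0, 4, 1, 4, 1, 2, 4, 0, 0, 0, 4, 1, 1, 1, 5, 1, 4, 2, 0, 4, 0, 4, 2, 2, 1, 1, 5, 1, 4],
   [5, 1, 5, 0, 5, 1, 5, 0, 3, 0, 5, 0, 2, 4, 4, 3, 3, 1, 4, 3, 0, 4, 0, 4, 3, 0, 3, 0, 4],
   [5, 1, 5, 1, 1, 1, 5, 1, 4, 1, 2, 4, 0, 2, 4, 0, 4, 0, 5, 0, 5, 1, 1, 4, 0, 3, 0, 5, 2, 0, 0, 4],
   [11, 14, 8, 21, 7, 9, 9, 6, 26, 2, 10],
   [30, 2, 6, 6, 18, 23, 24, 19, 2, 21, 17, 8, 15, 25],
   [2, 2, 2, 30, 2, 7, 1, 20, 8, 27, 27, 13, 28, 14, 29, 23, 8, 6, 16, 23],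
   [2, 35, 35, 1, 32, 9, 29, 20, 12, 2, 24, 18],
   [32, 3, 1, 2, 32, 7, 21, 17, 12, 14, 1, 10],
   [36, 34, 39, 3, 33, 35, 1, 1, 18, 0, 15, 8, 13, 19, 2, 16, 18, 8, 21, 16, 1],
   [39, 34, 32, 36, 0, 33, 6, 0, 6, 8, 24, 7, 25, 27, 16, 21, 7],
   [43, 43, 41, 35, 43, 39, 3, 32, 3, 1, 1, 36, 7, 26, 23, 7, 1, 3, 0, 7, 17, 23, 28, 15, 2, 15],
   [43, 41, 36, 39, 32, 36, 1, 2, 9, 45, 6, 11, 21, 0, 14],
   [40, 44, 42, 37, 39, 2, 2, 30, 2, 9, 14, 6, 18, 14, 8, 27, 1, 22, 8, 16],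
   [46, 45, 45, 46, 41, 45, 36, 44, 3, 32, 38, 30, 21, 19, 14, 28, 26, 6, 13, 24, 17],
   [51, 45, 48, 45, 41, 43, 37, 3, 32, 32, 1, 31, 7, 44, 6, 25, 29, 24],
   [47, 51, 47, 42, 42, 36, 44, 3, 37, 33, 1, 32, 21, 26, 25, 6, 21, 15, 3, 3, 3, 6, 11, 7, 7, 15],
   [53, 54, 45, 48, 47, 40, 49, 45, 35, 37, 2, 42, 30, 39, 6, 0, 8, 19, 12, 26, 17, 27],
   [51, 54, 49, 40, 49, 45, 37, 43, 3, 39, 31, 6, 0, 29, 10, 3, 29, 28, 13, 7],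
   [59, 57, 53, 51, 49, 40, 49, 45, 35, 3, 3, 47, 31, 31, 11, 18, 11, 0, 20, 28],
   [51, 54, 45, 46, 49, 42, 45, 37, 43, 3, 1, 31, 29, 12, 8, 14, 14],
   [15, 6, 31, 48, 32, 48, 39, 43, 40, 49, 46, 44, 55, 50, 52, 58, 60],
   [1, 1, 3, 1, 4, 1, 4, 2, 1, 5, 1, 4, 1, 5, 64],
   [23, 6, 0, 36, 2, 39, 36, 34, 54, 41, 55, 46, 44, 62],
   [1, 1, 4, 1, 5, 0, 5, 2, 0, 5, 0, 5, 0, 5, 68],
   [31, 0, 33, 3, 42, 36, 54, 41, 44, 47, 56, 58, 60, 62],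
   [2, 2, 2, 2, 1, 4, 1, 1, 4, 0, 5, 1, 1, 5, 72],
   [3, 31, 33, 2, 44, 38, 44, 43, 47, 50, 56, 58, 62],
   [1, 5, 1, 1, 3, 3, 0, 4, 0, 4, 0, 4, 1, 4, 76],
   [20, 6, 2, 0, 0, 32, 32, 43, 36, 45, 41, 55, 44, 55, 50, 56, 58, 60],
   [2, 1, 5, 0, 4, 3, 3, 1, 4, 0, 5, 3, 0, 5, 80]]

/-- the first relator: `(a d) ^ 24`. -/
def co1o_r1 : List ℕ := (List.replicate 24 [0, 4]).flatten

/-- the first relator with `d` inverted. -/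
def co1o_r1d : List ℕ := (List.replicate 24 [0, 5]).flatten

/-- the first relator with `a` inverted. -/
def co1o_r1a : List ℕ := (List.replicate 24 [1, 4]).flatten

/-- the second relator: `(a c c d⁻¹) ^ 22`. -/
def co1o_r3 : List ℕ := (List.replicate 22 [0, 2, 2, 5]).flatten

/-- the second relator with `a` and `d` inverted. -/
def co1o_r3m : List ℕ := (List.replicate 22 [1, 2, 2, 4]).flatten

end Cfsg.Agent.Co1O
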