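import Mathlib
import Cfsg.Agent.Co1O.GenDat

/-!
# S2069 (`Out(Co₁) = 1`): kernel checks of the data of the generation, a part
-/

set_option autoImplicit false
set_option maxRecDepth 1000000

namespace Cfsg.Agent.Co1O

open Cfsg.Agent.Helper9.LeechAct

theorem co1o_lws5_ok : co1o_lws5.all (fun w => w.all letOK) = true := by decide +kernel

theorem co1o_lws6_ok : co1o_lws6.all (fun w => w.all letOK) = true := by decide +kernel

theorem co1o_lws7_ok : co1o_lws7.all (fun w => w.all letOK) = true := by decide +kernel

theorem co1o_lws8_ok : co1o_lws8.all (fun w => w.all letOK) = true := by decide +kernel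

theorem co1o_lws9_ok : co1o_lws9.all (fun w => w.all letOK) = true := by decide +kernel

end Cfsg.Agent.Co1O
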