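import Mathlib
import Cfsg.Agent.Co1O.GenDat

/-!
# S2069 (`Out(Co₁) = 1`): kernel checks of the data of the generation, a part
-/

set_option autoImplicit false
set_option maxRecDepth 1000000

namespace Cfsg.Agent.Co1O

open Cfsg.Agent.Helper9.LeechAct

theorem co1o_pair12 : co1o_pairChk co1o_lws 30 (co1o_defs.getD 12 []) = true := by decide +kernel

theorem co1o_pair13 : co1o_pairChk co1o_lws 32 (co1o_defs.getD 13 []) = true := by decide +kernel

theorem co1o_pair14 : co1o_pairChk co1o_lws 34 (co1o_defs.getD 14 []) = true := by decide +kernel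

theorem co1o_pair15 : co1o_pairChk co1o_lws 36 (co1o_defs.getD 15 []) = true := by decide +kernel

theorem co1o_pair16 : co1o_pairChk co1o_lws 38 (co1o_defs.getD 16 []) = true := by decide +kernel

theorem co1o_pair17 : co1o_pairChk co1o_lws 40 (co1o_defs.getD 17 []) = true := by decide +kernel

theorem co1o_pair18 : co1o_pairChk co1o_lws 42 (co1o_defs.getD 18 []) = true := by decide +kernel

theorem co1o_pair19 : co1o_pairChk co1o_lws 44 (co1o_defs.getD 19 []) = true := by decide +kernel

theorem co1o_pair20 : co1o_pairChk co1o_lws 46 (co1o_defs.getD 20 []) = true := by decide +kernel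

theorem co1o_pair21 : co1o_pairChk co1o_lws 48 (co1o_defs.getD 21 []) = true := by decide +kernel

theorem co1o_pair22 : co1o_pairChk co1o_lws 50 (co1o_defs.getD 22 []) = true := by decide +kernel

theorem co1o_pair23 : co1o_pairChk co1o_lws 52 (co1o_defs.getD 23 []) = true := by decide +kernel

theorem co1o_pair24 : co1o_pairChk co1o_lws 54 (co1o_defs.getD 24 []) = true := by decide +kernel

theorem co1o_pair25 : co1o_pairChk co1o_lws 56 (co1o_defs.getD 25 []) = true := by decide +kernel

theorem co1o_pair26 : co1o_pairChk co1o_lws 58 (co1o_defs.getD 26 []) = true := by decide +kernel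

theorem co1o_pair27 : co1o_pairChk co1o_lws 60 (co1o_defs.getD 27 []) = true := by decide +kernel

theorem co1o_pair28 : co1o_pairChk co1o_lws 62 (co1o_defs.getD 28 []) = true := by decide +kernel

theorem co1o_pair29 : co1o_pairChk co1o_lws 64 (co1o_defs.getD 29 []) = true := by decide +kernel

theorem co1o_pair31 : co1o_pairChk co1o_lws 68 (co1o_defs.getD 31 []) = true := by decide +kernel

theorem co1o_pair33 : co1o_pairChk co1o_lws 72 (co1o_defs.getD 33 []) = true := by decide +kernel

theorem co1o_pair35 : co1o_pairChk co1o_lws 76 (co1o_defs.getD 35 []) = true := by decide +kernel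

theorem co1o_pair37 : co1o_pairChk co1o_lws 80 (co1o_defs.getD 37 []) = true := by decide +kernel

end Cfsg.Agent.Co1O
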