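import Mathlib
import Cfsg.Agent.Co1O.GenDat

/-!
# S2069 (`Out(Co₁) = 1`): kernel checks of the data of the generation, a part
-/

set_option autoImplicit false
set_option maxRecDepth 1000000

namespace Cfsg.Agent.Co1O

open Cfsg.Agent.Helper9.LeechAct

theorem co1o_inv01 : co1o_wordChk (co1o_lw co1o_lws 0 ++ co1o_lw co1o_lws (0 + 1)) [] = true := by
  decide +kernel

theorem co1o_inv23 : co1o_wordChk (co1o_lw co1o_lws 2 ++ co1o_lw co1o_lws (2 + 1)) [] = true := by
  decide +kernel

theorem co1o_inv45 : co1o_wordChk (co1o_lw co1o_lws 4 ++ co1o_lw co1o_lws (4 + 1)) [] = true := by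
  decide +kernel

end Cfsg.Agent.Co1O
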