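import Mathlib
import Cfsg.Agent.Co1O.GenDat

/-!
# S2069 (`Out(Co₁) = 1`): kernel checks of the data of the generation, a part
-/

set_option autoImplicit false
set_option maxRecDepth 1000000

namespace Cfsg.Agent.Co1O

open Cfsg.Agent.Helper9.LeechAct

theorem co1o_p5_b0 : co1o_wordChkS (co1o_flat co1o_lws (co1o_defs.getD 5 [])) (co1o_lw co1o_lws 16) (List.range' 0 6) = true := by
  decide +kernel

theorem co1o_p5_b1 : co1o_wordChkS (co1o_flat co1o_lws (co1o_defs.getD 5 [])) (co1o_lw co1o_lws 16) (List.range' 6 6) = true := by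
  decide +kernel

theorem co1o_p5_b2 : co1o_wordChkS (co1o_flat co1o_lws (co1o_defs.getD 5 [])) (co1o_lw co1o_lws 16) (List.range' 12 6) = true := by
  decide +kernel

theorem co1o_p5_b3 : co1o_wordChkS (co1o_flat co1o_lws (co1o_defs.getD 5 [])) (co1o_lw co1o_lws 16) (List.range' 18 6) = true := by
  decide +kernel

theorem co1o_p5_chk : co1o_wordChk (co1o_flat co1o_lws (co1o_defs.getD 5 [])) (co1o_lw co1o_lws 16) = true :=
  co1o_wordChk_of_blocks co1o_p5_b0 co1o_p5_b1 co1o_p5_b2 co1o_p5_b3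

theorem co1o_pair5 : co1o_pairChk co1o_lws 16 (co1o_defs.getD 5 []) = true := by
  unfold co1o_pairChk
  rw [Bool.and_eq_true, Bool.and_eq_true]
  exact ⟨⟨by decide +kernel, co1o_p5_chk⟩, by decide +kernel⟩

end Cfsg.Agent.Co1O
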