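import Mathlib
import Cfsg.Agent.Co1O.Cent11E

set_option autoImplicit false
set_option linter.unusedVariables false
set_option maxRecDepth 100000

/-!
# S2069 (`Out(Co₁) = 1`): the three relators

With `a, c, d` the images in `Co₁` of `aEl, cEl, dEl`: `(a d c a d) ^ 10 = 1`, while the same word in
`(a, c, d⁻¹)`, in `(a⁻¹, c, d)` and in `(a⁻¹, c, d⁻¹)` is not trivial.  These are the hypotheses
`hw1`, `hw2`, `hw3` of `co1o_out_of_words`; `co1o_out_of_gen` is the statement from generation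
alone.
-/

namespace Cfsg.Agent.Co1O

open Cfsg Cfsg.Agent.Helper9.Golay Cfsg.Agent.Helper9.Leech Cfsg.Agent.Helper9.Leech.Mono
open Cfsg.Agent.Helper9.LeechAct Cfsg.Agent.Helper3.Co1O

/-- the letter of the permutation `x ↦ x - 1`. -/
def co1o_aInvLet : LLet := { isXi := false, t := [22, 0, 1, 2, 3, 4, 5, 6, 7, 8, 9, 10, 11, 12, 13, 14, 15, 16, 17, 18, 19, 20, 21, 23], t' := [1, 2, 3, 4, 5, 6, 7, 8, 9, 10, 11, 12, 13, 14, 15, 16, 17, 18, 19, 20, 21, 22, 0, 23], m := 0x0 }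

theorem co1o_aInvLet_ok : [co1o_aInvLet].all letOK = true := by decide +kernel

theorem co1o_aInv_chk : co1o_wordChk ([aLet] ++ [co1o_aInvLet]) [] = true := by decide +kernel

/-- the letter `x ↦ x - 1` gives the inverse of `aEl`. -/
theorem co1o_aEl_inv : aEl⁻¹ = co1o_wEl [co1o_aInvLet] := by
  have h : co1o_wEl ([aLet] ++ [co1o_aInvLet]) = co1o_wEl [] :=
    co1o_word_ext (co1o_all_append co1o_aLet_ok co1o_aInvLet_ok) rfl co1o_aInv_chk
  rw [co1o_wEl_append, co1o_wEl_nil, ← co1o_aEl_def] at h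
  exact inv_eq_of_mul_eq_one_right h

/-- the inverse of `dEl` is its square. -/
theorem co1o_dEl_inv : dEl⁻¹ = co1o_wEl (dWord ++ dWord) := by
  have h := co1o_dEl_pow
  rw [pow_succ', pow_two] at h
  rw [co1o_wEl_append, ← co1o_dEl_def]
  exact inv_eq_of_mul_eq_one_right h

theorem co1o_wEl_pow (w : List LLet) (k : ℕ) :
    co1o_wEl w ^ k = co1o_wEl (List.replicate k w).flatten := by
  induction k with
  | zero => rfl
  | succ k ih => rw [pow_succ', ih, List.replicate_succ, List.flatten_cons, co1o_wEl_append]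

theorem co1o_all_replicate {w : List LLet} (h : w.all letOK = true) (k : ℕ) :
    (List.replicate k w).flatten.all letOK = true := by
  induction k with
  | zero => rfl
  | succ k ih =>
    rw [List.replicate_succ, List.flatten_cons]
    exact co1o_all_append h ih

/-- the image of a word is not trivial in the quotient by the centre if it moves the vector
`e8 none` to a vector with a second non-zero coordinate. -/
theorem co1o_proj_ne_one_of_coord {w : List LLet} (hw : w.all letOK = true) {j : ℕ} (hj : j < 23)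
    (h : (wordL w (e8L 23)).getD j 0 ≠ 0) : proj0 (co1o_wEl w) ≠ 1 := by
  intro h1
  have h3 := co1o_word_smul hw none
  have hpt : ptIdx (none : GolayPt) = 23 := rfl
  rw [hpt] at h3
  have hj24 : j < 24 := by omega
  have hR : toVec (wordL w (e8L 23)) (mkPt j) = (wordL w (e8L 23)).getD j 0 := by
    unfold toVec
    rw [ptIdx_mkPt j hj24]
  have hne : mkPt j ≠ (none : GolayPt) := by
    unfold mkPt
    rw [dif_pos hj]
    exact Option.some_ne_none _
  have hL : ((e8 none : ↥leechLattice) : GolayPt → ℤ) (mkPt j) = 0 := by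
    rw [e8_apply, if_neg hne]
  have h4 := congrFun h3 (mkPt j)
  rw [hR] at h4
  rcases (co1o_proj0_eq_one _).mp h1 with h2 | h2
  · rw [h2, one_smul, hL] at h4
    exact h h4.symm
  · rw [h2, negEl_smul] at h4
    have h5 : ((-(e8 none) : ↥leechLattice) : GolayPt → ℤ) (mkPt j) =
        -(((e8 none : ↥leechLattice) : GolayPt → ℤ) (mkPt j)) := rfl
    rw [h5, hL, neg_zero] at h4
    exact h h4.symm

/-! ### the four words -/

/-- the word `a d c a d`. -/
def co1o_uB : List LLet := [aLet] ++ (dWord ++ ([cLet] ++ ([aLet] ++ dWord)))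

/-- the word `a d⁻¹ c a d⁻¹`. -/
def co1o_u1 : List LLet :=
  [aLet] ++ ((dWord ++ dWord) ++ ([cLet] ++ ([aLet] ++ (dWord ++ dWord))))

/-- the word `a⁻¹ d c a⁻¹ d`. -/
def co1o_u2 : List LLet := [co1o_aInvLet] ++ (dWord ++ ([cLet] ++ ([co1o_aInvLet] ++ dWord)))

/-- the word `a⁻¹ d⁻¹ c a⁻¹ d⁻¹`. -/
def co1o_u3 : List LLet :=
  [co1o_aInvLet] ++ ((dWord ++ dWord) ++ ([cLet] ++ ([co1o_aInvLet] ++ (dWord ++ dWord))))

theorem co1o_uB_ok : co1o_uB.all letOK = true := by decide +kernel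

theorem co1o_u1_ok : co1o_u1.all letOK = true := by decide +kernel

theorem co1o_u2_ok : co1o_u2.all letOK = true := by decide +kernel

theorem co1o_u3_ok : co1o_u3.all letOK = true := by decide +kernel

theorem co1o_dEl_inv' : dEl⁻¹ = dEl * dEl := by
  rw [co1o_dEl_inv, co1o_wEl_append, ← co1o_dEl_def]

theorem co1o_uB_eq : co1o_wEl co1o_uB = aEl * dEl * cEl * aEl * dEl := by
  unfold co1o_uB
  simp only [co1o_wEl_append]
  rw [← co1o_aEl_def, ← co1o_cEl_def, ← co1o_dEl_def]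
  simp only [mul_assoc]

theorem co1o_u1_eq : co1o_wEl co1o_u1 = aEl * dEl⁻¹ * cEl * aEl * dEl⁻¹ := by
  unfold co1o_u1
  simp only [co1o_wEl_append]
  rw [← co1o_aEl_def, ← co1o_cEl_def, ← co1o_dEl_def, co1o_dEl_inv']
  simp only [mul_assoc]

theorem co1o_u2_eq : co1o_wEl co1o_u2 = aEl⁻¹ * dEl * cEl * aEl⁻¹ * dEl := by
  unfold co1o_u2
  simp only [co1o_wEl_append]
  rw [← co1o_aEl_inv, ← co1o_cEl_def, ← co1o_dEl_def]
  simp only [mul_assoc]

theorem co1o_u3_eq : co1o_wEl co1o_u3 = aEl⁻¹ * dEl⁻¹ * cEl * aEl⁻¹ * dEl⁻¹ := by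
  unfold co1o_u3
  simp only [co1o_wEl_append]
  rw [← co1o_aEl_inv, ← co1o_cEl_def, ← co1o_dEl_def, co1o_dEl_inv']
  simp only [mul_assoc]

theorem co1o_uB_chk : co1o_wordChk (List.replicate 10 co1o_uB).flatten [] = true := by
  decide +kernel

theorem co1o_uB_pow : (aEl * dEl * cEl * aEl * dEl) ^ 10 = 1 := by
  rw [← co1o_uB_eq, co1o_wEl_pow, ← co1o_wEl_nil]
  exact co1o_word_ext (co1o_all_replicate co1o_uB_ok 10) rfl co1o_uB_chk

theorem co1o_u1_coord : (wordL (List.replicate 10 co1o_u1).flatten (e8L 23)).getD 1 0 ≠ 0 := by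
  decide +kernel

theorem co1o_u2_coord : (wordL (List.replicate 10 co1o_u2).flatten (e8L 23)).getD 1 0 ≠ 0 := by
  decide +kernel

theorem co1o_u3_coord : (wordL (List.replicate 10 co1o_u3).flatten (e8L 23)).getD 1 0 ≠ 0 := by
  decide +kernel

theorem co1o_u1_ne : proj0 ((aEl * dEl⁻¹ * cEl * aEl * dEl⁻¹) ^ 10) ≠ 1 := by
  rw [← co1o_u1_eq, co1o_wEl_pow]
  exact co1o_proj_ne_one_of_coord (co1o_all_replicate co1o_u1_ok 10) (by norm_num) co1o_u1_coord

theorem co1o_u2_ne : proj0 ((aEl⁻¹ * dEl * cEl * aEl⁻¹ * dEl) ^ 10) ≠ 1 := by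
  rw [← co1o_u2_eq, co1o_wEl_pow]
  exact co1o_proj_ne_one_of_coord (co1o_all_replicate co1o_u2_ok 10) (by norm_num) co1o_u2_coord

theorem co1o_u3_ne : proj0 ((aEl⁻¹ * dEl⁻¹ * cEl * aEl⁻¹ * dEl⁻¹) ^ 10) ≠ 1 := by
  rw [← co1o_u3_eq, co1o_wEl_pow]
  exact co1o_proj_ne_one_of_coord (co1o_all_replicate co1o_u3_ok 10) (by norm_num) co1o_u3_coord

/-! ### the relator in the free group -/

/-- the relator `(x₀ x₂ x₁ x₀ x₂) ^ 10`. -/
def co1o_relW : FreeGroup (Fin 3) :=
  (FreeGroup.of 0 * FreeGroup.of 2 * FreeGroup.of 1 * FreeGroup.of 0 * FreeGroup.of 2) ^ 10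

theorem co1o_lift_relW {H : Type*} [Group H] (x y z : H) :
    FreeGroup.lift ![x, y, z] co1o_relW = (x * z * y * x * z) ^ 10 := by
  unfold co1o_relW
  simp [map_pow, map_mul, FreeGroup.lift_apply_of]

/-- the statement, from generation alone. -/
theorem co1o_out_of_gen
    (hgen : Subgroup.closure ({proj0 aEl, proj0 cEl, proj0 dEl} : Set Spor.Co1) = ⊤) :
    Nat.card (Cfsg.Out Spor.Co1) = 1 := by
  have hB : FreeGroup.lift ![proj0 aEl, proj0 cEl, proj0 dEl] co1o_relW = 1 := by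
    rw [co1o_lift_relW, ← map_mul, ← map_mul, ← map_mul, ← map_mul, ← map_pow, co1o_uB_pow,
      map_one]
  refine co1o_out_of_words hgen ⟨co1o_relW, hB, ?_⟩ ⟨co1o_relW, hB, ?_⟩ ⟨co1o_relW, hB, ?_⟩
  · rw [co1o_lift_relW, ← map_inv, ← map_mul, ← map_mul, ← map_mul, ← map_mul, ← map_pow]
    exact co1o_u1_ne
  · rw [co1o_lift_relW, ← map_inv, ← map_mul, ← map_mul, ← map_mul, ← map_mul, ← map_pow]
    exact co1o_u2_ne
  · rw [co1o_lift_relW, ← map_inv, ← map_inv, ← map_mul, ← map_mul, ← map_mul, ← map_mul,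
      ← map_pow]
    exact co1o_u3_ne

end Cfsg.Agent.Co1O
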