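import Mathlib
import Cfsg.Agent.Co1O.GenChkA
import Cfsg.Agent.Co1O.GenChkB
import Cfsg.Agent.Co1O.GenChkC
import Cfsg.Agent.Co1O.GenChkL
import Cfsg.Agent.Co1O.GenChkM
import Cfsg.Agent.Co1O.GenP0
import Cfsg.Agent.Co1O.GenP1
import Cfsg.Agent.Co1O.GenP2
import Cfsg.Agent.Co1O.GenP3
import Cfsg.Agent.Co1O.GenP4
import Cfsg.Agent.Co1O.GenP5
import Cfsg.Agent.Co1O.GenP6
import Cfsg.Agent.Co1O.GenP7
import Cfsg.Agent.Co1O.GenP8
import Cfsg.Agent.Co1O.GenP9
import Cfsg.Agent.Co1O.GenP10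
import Cfsg.Agent.Co1O.GenP11
import Cfsg.Agent.Co1O.GenP30
import Cfsg.Agent.Co1O.GenP32
import Cfsg.Agent.Co1O.GenP34
import Cfsg.Agent.Co1O.GenP36
import Cfsg.Agent.Co1O.GenP38
import Cfsg.Agent.Co1O.Rel
import Cfsg.Agent.Helper3.Co1ZN

/-!
# S2069 (`Out(Co₁) = 1`): generation by the rigid triple, and the statement

* `co1o_mem_genM`: all entries of the list of `GenDat` lie in the subgroup generated by the images
  of the three generators;
* `co1o_hgen`: the images of `aEl, cEl, dEl` generate `Co₁` (through the five generators of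
  `Cfsg.Agent.Helper3.Co1ZG.gQ_closure`);
* `co1o_out_co1 : Nat.card (Cfsg.Out Spor.Co1) = 1`.
-/

set_option autoImplicit false
set_option maxRecDepth 100000

namespace Cfsg.Agent.Co1O

open Cfsg Cfsg.Agent.Helper9.Golay Cfsg.Agent.Helper9.Leech Cfsg.Agent.Helper9.Leech.Mono
open Cfsg.Agent.Helper9.LeechAct Cfsg.Agent.Helper3.Co1O

theorem co1o_L_ok : co1o_LOK co1o_lws := by
  unfold co1o_LOK co1o_lws
  simp only [List.all_append, Bool.and_eq_true]
  exact ⟨⟨⟨⟨⟨⟨⟨⟨⟨⟨⟨⟨⟨co1o_lws0_ok, co1o_lws1_ok⟩, co1o_lws2_ok⟩, co1o_lws3_ok⟩, co1o_lws4_ok⟩,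
    co1o_lws5_ok⟩, co1o_lws6_ok⟩, co1o_lws7_ok⟩, co1o_lws8_ok⟩, co1o_lws9_ok⟩, co1o_lws10_ok⟩,
    co1o_lws11_ok⟩, co1o_lws12_ok⟩, co1o_lws13_ok⟩

theorem co1o_pairs_all : ∀ j, j < 39 →
    co1o_pairChk co1o_lws (6 + 2 * j) (co1o_defs.getD j []) = true := by
  intro j hj
  interval_cases j
  · exact co1o_pair0
  · exact co1o_pair1
  · exact co1o_pair2
  · exact co1o_pair3
  · exact co1o_pair4
  · exact co1o_pair5
  · exact co1o_pair6
  · exact co1o_pair7
  · exact co1o_pair8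
  · exact co1o_pair9
  · exact co1o_pair10
  · exact co1o_pair11
  · exact co1o_pair12
  · exact co1o_pair13
  · exact co1o_pair14
  · exact co1o_pair15
  · exact co1o_pair16
  · exact co1o_pair17
  · exact co1o_pair18
  · exact co1o_pair19
  · exact co1o_pair20
  · exact co1o_pair21
  · exact co1o_pair22
  · exact co1o_pair23
  · exact co1o_pair24
  · exact co1o_pair25
  · exact co1o_pair26
  · exact co1o_pair27
  · exact co1o_pair28
  · exact co1o_pair29
  · exact co1o_pair30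
  · exact co1o_pair31
  · exact co1o_pair32
  · exact co1o_pair33
  · exact co1o_pair34
  · exact co1o_pair35
  · exact co1o_pair36
  · exact co1o_pair37
  · exact co1o_pair38

theorem co1o_mem_genM : ∀ c, c < 84 → co1o_gQ co1o_lws c ∈ co1o_genM co1o_lws :=
  co1o_mem_of_pairs co1o_L_ok 39 (fun j => co1o_defs.getD j []) co1o_pairs_all
    co1o_inv01 co1o_inv23 co1o_inv45

/-- the five generators of `Cfsg.Agent.Helper3.Co1ZG` are entries of the list. -/
theorem co1o_old_gen (i : ℕ) (hi : i < 5) :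
    Cfsg.Agent.Helper3.Co1ZG.gQ i = co1o_gQ co1o_lws (66 + 4 * i) := by
  interval_cases i <;> rfl

theorem co1o_genM_eq : co1o_genM co1o_lws =
    Subgroup.closure ({proj0 aEl, proj0 cEl, proj0 dEl} : Set Spor.Co1) := rfl

/-- **the images of the three generators generate `Co₁`.** -/
theorem co1o_hgen :
    Subgroup.closure ({proj0 aEl, proj0 cEl, proj0 dEl} : Set Spor.Co1) = ⊤ := by
  rw [eq_top_iff, ← Cfsg.Agent.Helper3.Co1ZG.gQ_closure, Subgroup.closure_le]
  rintro y ⟨i, hi, rfl⟩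
  have h := co1o_mem_genM (66 + 4 * i) (by omega)
  rw [co1o_genM_eq, ← co1o_old_gen i hi] at h
  exact h

/-- **the outer automorphism group of `Co₁` is trivial.** -/
theorem co1o_out_co1 : Nat.card (Cfsg.Out Spor.Co1) = 1 := co1o_out_of_gen co1o_hgen

end Cfsg.Agent.Co1O
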